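import Cfsg.Agent.Lib.DegreeTools.FeitFour.Basic
import Cfsg.Agent.Lib.DegreeTools.CentralSupport
import Cfsg.Agent.Lib.CharDeep.Galois.ComplexAut

/-!
# Joint eigenvalues, Galois conjugation of values, and discrete Fourier sums
-/

set_option autoImplicit false
set_option linter.style.haveILetI false

namespace CfsgLib.DegreeTools.FeitFour

open CfsgLib CfsgLib.Char CfsgLib.DegreeTools
open scoped Classical ComplexConjugate

variable {G : Type*} [Group G] [Fintype G]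

/-- Joint eigenvalues of two commuting elements. -/
theorem exists_joint {u : G} (h : Hyp u) {χ : Cfsg.IrrCharacter G} (h3 : (χ : G → ℂ) 1 = 3)
    {x y : G} (hxy : Commute x y) : ∃ μ ν : Fin 3 → ℂ,
      (∀ i, μ i ^ orderOf x = 1) ∧ (∀ i, ν i ^ orderOf y = 1) ∧
      μ 0 * μ 1 * μ 2 = 1 ∧ ν 0 * ν 1 * ν 2 = 1 ∧
      ∀ i j : ℕ, (χ : G → ℂ) (x ^ i * y ^ j) = ∑ l, μ l ^ i * ν l ^ j := by
  let A := Subgroup.zpowers x
  let B := Subgroup.zpowers y
  have hAB : ∀ (a : A) (b : B), Commute (A.subtype a) (B.subtype b) := fun a b => by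
    obtain ⟨i, hi⟩ := Subgroup.mem_zpowers_iff.mp a.2
    obtain ⟨j, hj⟩ := Subgroup.mem_zpowers_iff.mp b.2
    show Commute (a : G) (b : G)
    rw [← hi, ← hj]
    exact hxy.zpow_zpow i j
  let f : A × B →* G := MonoidHom.noncommCoprod A.subtype B.subtype hAB
  have hK : ∀ p q : A × B, p * q = q * p := fun p q => by
    refine Prod.ext ?_ ?_
    · obtain ⟨i, hi⟩ := Subgroup.mem_zpowers_iff.mp p.1.2
      obtain ⟨j, hj⟩ := Subgroup.mem_zpowers_iff.mp q.1.2
      exact Subtype.ext (by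
        show (p.1 : G) * q.1 = q.1 * p.1
        rw [← hi, ← hj, ← zpow_add, ← zpow_add, add_comm])
    · obtain ⟨i, hi⟩ := Subgroup.mem_zpowers_iff.mp p.2.2
      obtain ⟨j, hj⟩ := Subgroup.mem_zpowers_iff.mp q.2.2
      exact Subtype.ext (by
        show (p.2 : G) * q.2 = q.2 * p.2
        rw [← hi, ← hj, ← zpow_add, ← zpow_add, add_comm])
  obtain ⟨m, -, hexp⟩ := IsCharacter.exists_multiplicity (IsCharacter.comp (isCharacter_irr χ) f)
  have hlin : ∀ φ : Cfsg.IrrCharacter (A × B), (φ : A × B → ℂ) 1 = 1 := fun φ =>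
    apply_one_eq_one_of_comm hK φ.2
  have hm : Fintype.card (Σ φ : Cfsg.IrrCharacter (A × B), Fin (m φ)) = 3 := by
    have h1 := hexp 1
    simp only [hlin, mul_one, Function.comp_apply, map_one, h3] at h1
    simp only [Fintype.card_sigma, Fintype.card_fin]
    exact_mod_cast h1.symm
  let e := (Fintype.equivFinOfCardEq hm).symm
  choose l hl using fun φ : Cfsg.IrrCharacter (A × B) =>
    exists_hom_of_apply_one_eq_one (isCharacter_irr φ) (hlin φ)
  let X : A × B := (⟨x, Subgroup.mem_zpowers x⟩, 1)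
  let Y : A × B := (1, ⟨y, Subgroup.mem_zpowers y⟩)
  have hval : ∀ k : A × B, (χ : G → ℂ) (f k) = ∑ i : Fin 3, (l (e i).1 k : ℂ) := fun k => by
    have h1 := hexp k
    simp only [Function.comp_apply] at h1
    rw [h1, Equiv.sum_comp e (fun s => (l s.1 k : ℂ)), Fintype.sum_sigma]
    refine Finset.sum_congr rfl fun φ _ => ?_
    simp [hl φ]
  have hij : ∀ i j : ℕ, (χ : G → ℂ) (x ^ i * y ^ j) =
      ∑ t : Fin 3, (l (e t).1 X : ℂ) ^ i * (l (e t).1 Y : ℂ) ^ j := fun i j => by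
    have h1 : f (X ^ i * Y ^ j) = x ^ i * y ^ j := by
      simp [f, X, Y, map_pow]
    rw [← h1, hval]
    simp only [map_mul, map_pow, Units.val_mul, Units.val_pow_eq_pow_val]
  have hordX : ∀ t, (l (e t).1 X : ℂ) ^ orderOf x = 1 := fun t => by
    rw [← Units.val_pow_eq_pow_val, ← map_pow,
      show X ^ orderOf x = 1 from Prod.ext (Subtype.ext (by simp [X, pow_orderOf_eq_one]))
        (by simp [X]), map_one, Units.val_one]
  have hordY : ∀ t, (l (e t).1 Y : ℂ) ^ orderOf y = 1 := fun t => by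
    rw [← Units.val_pow_eq_pow_val, ← map_pow,
      show Y ^ orderOf y = 1 from Prod.ext (by simp [Y])
        (Subtype.ext (by simp [Y, pow_orderOf_eq_one])), map_one, Units.val_one]
  have hprod : ∀ (g : G) (μ : Fin 3 → ℂ), (∀ k : ℕ, (χ : G → ℂ) (g ^ k) = ∑ t, μ t ^ k) →
      μ 0 * μ 1 * μ 2 = 1 := by
    intro g μ hk
    obtain ⟨a, b, c, -, -, -, habc, hk'⟩ := exists_triple h h3 g
    have e1 := (hk 1).symm.trans (hk' 1)
    have e2 := (hk 2).symm.trans (hk' 2)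
    have e3 := (hk 3).symm.trans (hk' 3)
    simp only [Fin.sum_univ_three, pow_one] at e1 e2 e3
    rw [← habc]
    have key : ∀ p q r : ℂ, 6 * (p * q * r) =
        (p + q + r) ^ 3 - 3 * (p + q + r) * (p ^ 2 + q ^ 2 + r ^ 2) +
          2 * (p ^ 3 + q ^ 3 + r ^ 3) := fun p q r => by ring
    have h6 : (6 : ℂ) * (μ 0 * μ 1 * μ 2) = 6 * (a * b * c) := by
      rw [key, key, e1, e2, e3]
    exact mul_left_cancel₀ (by norm_num) h6
  refine ⟨fun t => (l (e t).1 X : ℂ), fun t => (l (e t).1 Y : ℂ), hordX, hordY,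
    hprod x (fun t => (l (e t).1 X : ℂ)) fun k => ?_, hprod y (fun t => (l (e t).1 Y : ℂ)) fun k => ?_, hij⟩
  · simpa using hij k 0
  · simpa using hij 0 k

/-- An automorphism of `ℂ` raising the roots of unity of a given order to a power. -/
theorem exists_sigma {n k : ℕ} (hn : n ≠ 0) (hk : k.Coprime n) :
    ∃ σ : ℂ ≃+* ℂ, ∀ r : ℂ, r ^ n = 1 → σ r = r ^ k := by
  haveI : NeZero n := ⟨hn⟩
  have hω := Complex.isPrimitiveRoot_exp n hn
  obtain ⟨σ, hσ⟩ := CharDeep.Galois.exists_ringEquiv_primitive hn hω (hω.pow_of_coprime k hk)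
  refine ⟨σ, fun r hr => ?_⟩
  obtain ⟨i, -, rfl⟩ := hω.eq_pow_of_pow_eq_one hr
  rw [map_pow, hσ, ← pow_mul, ← pow_mul, Nat.mul_comm i k]

/-- Values at coprime powers are Galois conjugate. -/
theorem exists_galois_apply (g : G) {k : ℕ} (hk : k.Coprime (orderOf g)) :
    ∃ σ : ℂ ≃+* ℂ, (∀ r : ℂ, r ^ orderOf g = 1 → σ r = r ^ k) ∧
      ∀ χ : Cfsg.IrrCharacter G, σ ((χ : G → ℂ) g) = (χ : G → ℂ) (g ^ k) := by
  obtain ⟨σ, hσ⟩ := exists_sigma (orderOf_pos g).ne' hk
  refine ⟨σ, hσ, fun χ => ?_⟩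
  obtain ⟨n, ρ, hirr, hρ⟩ := χ.2
  obtain ⟨μ, hμ, hkk⟩ := exists_eigenvalues ρ g
  have h1 := hkk 1
  rw [pow_one] at h1
  rw [← hρ, h1, hkk k, map_sum]
  exact Finset.sum_congr rfl fun i _ => by rw [pow_one]; exact hσ _ (hμ i)

theorem geom_root {r : ℂ} {n : ℕ} (hr : r ^ n = 1) :
    ∑ k ∈ Finset.range n, r ^ k = if r = 1 then (n : ℂ) else 0 := by
  split_ifs with h
  · simp [h]
  · rw [geom_sum_eq h, hr, sub_self, zero_div]

/-- Discrete Fourier coefficient of an exponential sum. -/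
theorem fourier {ι : Type*} [Fintype ι] (w r : ι → ℂ) {n : ℕ} (hr : ∀ a, r a ^ n = 1)
    {z : ℂ} (hz : z ^ n = 1) :
    ∑ k ∈ Finset.range n, (∑ a, w a * r a ^ k) * z ^ k =
      n * ∑ a ∈ Finset.univ.filter (fun a => r a * z = 1), w a := by
  simp only [Finset.sum_mul, mul_assoc, ← mul_pow]
  rw [Finset.sum_comm, Finset.sum_filter, Finset.mul_sum]
  refine Finset.sum_congr rfl fun a _ => ?_
  rw [← Finset.mul_sum, geom_root (by rw [mul_pow, hr a, hz, one_mul])]
  split_ifs <;> ring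

/-- Scalar elements in a faithful character are central. -/
theorem mem_center_of_scalar {χ : Cfsg.IrrCharacter G} (h3 : (χ : G → ℂ) 1 = 3)
    (hf : ∀ g : G, (χ : G → ℂ) g = (χ : G → ℂ) 1 → g = 1) {g : G} {c : ℂ} (hc : ‖c‖ = 1)
    (h : (χ : G → ℂ) g = 3 * c) : g ∈ Subgroup.center G := by
  refine mem_center_of_norm_eq χ hf g ?_
  rw [h, norm_mul, hc, mul_one, ← norm_apply_one, h3]

end CfsgLib.DegreeTools.FeitFour
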