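import Cfsg.Agent.Lib.Char.DegPMinusTwo.Avg
import Cfsg.Agent.Lib.DegreeTools.Basic
import Cfsg.Agent.Lib.DegreeTools.LinearChars
import Cfsg.Agent.Lib.DegreeTools.Rationality
import Cfsg.Agent.Lib.Char.Perm

/-!
# Groups with `χ(1) - χ(u) = 4` or `χ(u) = 0` for all non-trivial irreducible characters

The first consequences: the group is perfect, there is a character of degree three with value
`-1` at `u`, and its symmetric square and adjoint character are known.
-/

set_option autoImplicit false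
set_option linter.style.haveILetI false

namespace CfsgLib.DegreeTools.FeitFour

open CfsgLib CfsgLib.Char CfsgLib.DegreeTools
open scoped Classical ComplexConjugate

variable {G : Type*} [Group G] [Fintype G]

/-- The hypothesis. -/
def Hyp (u : G) : Prop :=
  u ≠ 1 ∧ ∀ χ : Cfsg.IrrCharacter G, χ ≠ oneChar G →
    ((χ : G → ℂ) 1 - (χ : G → ℂ) u = 4 ∨ (χ : G → ℂ) u = 0)

/-- The symmetric square. -/
theorem isCharacter_symSquare {φ : G → ℂ} (hφ : Cfsg.IsCharacter G φ) :
    Cfsg.IsCharacter G fun g => (φ g * φ g + φ (g * g)) / 2 := by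
  obtain ⟨d, ρ, rfl⟩ := hφ
  let b := Pi.basisFun ℂ (Fin d)
  let M : G →* Matrix (Fin d) (Fin d) ℂ :=
    { toFun := fun g => LinearMap.toMatrix b b (ρ g)
      map_one' := by rw [map_one]; exact LinearMap.toMatrix_one b
      map_mul' := fun g h => by rw [map_mul]; exact LinearMap.toMatrix_mul b _ _ }
  have hM : ∀ g, (M g).trace = ρ.character g := fun g => (LinearMap.trace_eq_matrix_trace ℂ b _).symm
  let τ : Representation ℂ G (Matrix (Fin d) (Fin d) ℂ) :=
    { toFun := fun g => (LinearMap.mulLeft ℂ (M g).transpose.transpose).comp (LinearMap.mulRight ℂ (M g).transpose)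
      map_one' := LinearMap.ext fun X => by simp
      map_mul' := fun a b => LinearMap.ext fun X => by simp [mul_assoc] }
  let T : Module.End ℂ (Matrix (Fin d) (Fin d) ℂ) :=
    (Matrix.transposeLinearEquiv (Fin d) (Fin d) ℂ ℂ).toLinearMap
  have hTT : T * T = 1 := LinearMap.ext fun X => by simp [T]
  have hcomm : ∀ g, τ g * T = T * τ g := fun g => LinearMap.ext fun X => by simp [T, τ, mul_assoc]
  set e : Module.End ℂ (Matrix (Fin d) (Fin d) ℂ) := (2 : ℂ)⁻¹ • (1 + T) with he
  have hee : e * e = e := by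
    rw [he, smul_mul_smul_comm, add_mul, mul_add, mul_add, one_mul, one_mul, mul_one, hTT]
    module
  have hce : ∀ g, τ g * e = e * τ g := fun g => by
    rw [he, mul_smul_comm, smul_mul_assoc, mul_add, add_mul, mul_one, one_mul, hcomm]
  let W : Submodule ℂ (Matrix (Fin d) (Fin d) ℂ) := LinearMap.range e
  have hW : ∀ g x, x ∈ W → τ g x ∈ W := by
    rintro g _ ⟨x, rfl⟩
    exact ⟨τ g x, (DFunLike.congr_fun (hce g) x).symm⟩
  let σ : Representation ℂ G W :=
    { toFun := fun g => (τ g).restrict (hW g)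
      map_one' := LinearMap.ext fun x => Subtype.ext (by simp)
      map_mul' := fun a b => LinearMap.ext fun x => Subtype.ext (by simp) }
  have hσ : ∀ g, σ.character g = (ρ.character g * ρ.character g + ρ.character (g * g)) / 2 := by
    intro g
    let f : Matrix (Fin d) (Fin d) ℂ →ₗ[ℂ] W := (τ g * e).codRestrict W fun x => hW g _ ⟨x, rfl⟩
    have h1 : f ∘ₗ W.subtype = σ g := LinearMap.ext fun x => Subtype.ext (by
      obtain ⟨z, hz⟩ := x.2
      show τ g (e (x : Matrix (Fin d) (Fin d) ℂ)) = τ g (x : Matrix (Fin d) (Fin d) ℂ)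
      rw [← hz, ← Module.End.mul_apply e e, hee])
    have h2 : W.subtype ∘ₗ f = τ g * e := LinearMap.ext fun x => rfl
    show LinearMap.trace ℂ W (σ g) = _
    have t1 : LinearMap.trace ℂ _ (τ g) = (M g).trace * (M g).trace := by
      have h := trace_transpose_mul_mul (M g).transpose
      rw [Matrix.trace_transpose] at h
      exact h
    have t2 : LinearMap.trace ℂ _ (τ g * T) = (M (g * g)).trace := by
      have h := trace_swap_mul_mul (M g).transpose
      rw [← Matrix.transpose_mul, Matrix.trace_transpose, ← map_mul M] at h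
      exact h
    rw [← h1, LinearMap.trace_comp_comm', h2, he, mul_smul_comm, mul_add, mul_one, map_smul, map_add, t1, t2, hM, hM,
      smul_eq_mul]
    ring
  have h := isCharacter_of_rep σ
  rwa [show σ.character = fun g => (ρ.character g * ρ.character g + ρ.character (g * g)) / 2 from funext hσ] at h

omit [Fintype G] in
theorem deg_one_iff_linear (χ : Cfsg.IrrCharacter G) :
    (χ : G → ℂ) 1 = 1 ↔ Cfsg.charDegree (χ : G → ℂ) = 1 :=
  (deg_eq_one_iff χ).symm

/-- The group is perfect. -/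
theorem perfect {u : G} (h : Hyp u) : commutator G = ⊤ := by
  by_contra hne
  obtain ⟨χ, hχ, h1⟩ := exists_linear_ne_one_iff.mpr hne
  have hn := norm_apply_linear χ h1 u
  rcases h.2 χ hχ with he | he
  · have : (χ : G → ℂ) u = -3 := by rw [h1] at he; linear_combination -he
    rw [this] at hn
    norm_num at hn
  · rw [he] at hn
    norm_num at hn

/-- The non-principal values at `u`. -/
theorem apply_eq {u : G} (h : Hyp u) {φ : Cfsg.IrrCharacter G} (hφ : φ ≠ oneChar G)
    (h0 : (φ : G → ℂ) u ≠ 0) :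
    (φ : G → ℂ) u = (Cfsg.charDegree (φ : G → ℂ) : ℂ) - 4 := by
  rcases h.2 φ hφ with he | he
  · rw [deg_cast]; linear_combination -he
  · exact absurd he h0

theorem two_le_deg {u : G} (h : Hyp u) {φ : Cfsg.IrrCharacter G} (hφ : φ ≠ oneChar G) :
    2 ≤ Cfsg.charDegree (φ : G → ℂ) := by
  rcases Nat.lt_or_ge (Cfsg.charDegree (φ : G → ℂ)) 2 with hlt | hge
  · exfalso
    have hp := deg_pos φ
    have h1 : (φ : G → ℂ) 1 = 1 := (deg_one_iff_linear φ).mpr (by omega)
    exact exists_linear_ne_one_iff.mp ⟨φ, hφ, h1⟩ (perfect h)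
  · exact hge

/-- A character of degree at most six without trivial constituent and with positive value
at `u` is irreducible. -/
theorem eq_irr_of_pos {u : G} (h : Hyp u) {Ψ : G → ℂ} (hΨ : Cfsg.IsCharacter G Ψ) {n : ℕ}
    (hn : Ψ 1 = n) (h6 : n ≤ 6) (h1 : Cfsg.classInner Ψ (oneChar G : G → ℂ) = 0)
    (hpos : 0 < (Ψ u).re) :
    ∃ φ : Cfsg.IrrCharacter G, (φ : G → ℂ) = Ψ ∧ 5 ≤ n ∧ Ψ u = (n : ℂ) - 4 := by
  obtain ⟨m, hm, hexp⟩ := IsCharacter.exists_multiplicity hΨ
  have hm1 : m (oneChar G) = 0 := by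
    have := hm (oneChar G)
    rw [h1] at this
    exact_mod_cast this.symm
  have hdeg : ∑ φ : Cfsg.IrrCharacter G, m φ * Cfsg.charDegree (φ : G → ℂ) = n := by
    have : ((∑ φ : Cfsg.IrrCharacter G, m φ * Cfsg.charDegree (φ : G → ℂ) : ℕ) : ℂ) = (n : ℂ) := by
      rw [← hn, hexp 1]
      push_cast
      exact Finset.sum_congr rfl fun φ _ => by rw [deg_cast]
    exact_mod_cast this
  obtain ⟨φ, hφm, hφd⟩ : ∃ φ : Cfsg.IrrCharacter G, m φ ≠ 0 ∧
      5 ≤ Cfsg.charDegree (φ : G → ℂ) := by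
    by_contra hno
    simp only [not_exists, not_and, not_le] at hno
    have hle : (Ψ u).re ≤ 0 := by
      rw [hexp u, Complex.re_sum]
      refine Finset.sum_nonpos fun φ _ => ?_
      by_cases h0 : m φ = 0
      · simp [h0]
      · have hne : φ ≠ oneChar G := fun e => h0 (e ▸ hm1)
        rcases eq_or_ne ((φ : G → ℂ) u) 0 with hz | hz
        · simp [hz]
        · rw [apply_eq h hne hz]
          have h5 := hno φ h0
          have hre : ((m φ : ℂ) * ((Cfsg.charDegree (φ : G → ℂ) : ℂ) - 4)).re =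
              (m φ : ℝ) * ((Cfsg.charDegree (φ : G → ℂ) : ℝ) - 4) := by simp
          rw [hre]
          refine mul_nonpos_of_nonneg_of_nonpos (Nat.cast_nonneg _) ?_
          have : (Cfsg.charDegree (φ : G → ℂ) : ℝ) ≤ 4 := by exact_mod_cast Nat.lt_succ_iff.mp h5
          linarith
    linarith
  have hsplit := Finset.add_sum_erase Finset.univ
    (fun ψ : Cfsg.IrrCharacter G => m ψ * Cfsg.charDegree (ψ : G → ℂ)) (Finset.mem_univ φ)
  rw [hdeg] at hsplit
  have hrest : ∀ ψ ∈ Finset.univ.erase φ, m ψ = 0 := by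
    intro ψ hψ
    by_contra h0
    have hne : ψ ≠ oneChar G := fun e => h0 (e ▸ hm1)
    have h2 := two_le_deg h hne
    have hle := Finset.single_le_sum (fun x _ => Nat.zero_le
      (m x * Cfsg.charDegree (x : G → ℂ))) hψ
    have h3 : 2 ≤ m ψ * Cfsg.charDegree (ψ : G → ℂ) :=
      h2.trans (Nat.le_mul_of_pos_left _ (Nat.pos_of_ne_zero h0))
    have h4 : 5 ≤ m φ * Cfsg.charDegree (φ : G → ℂ) :=
      hφd.trans (Nat.le_mul_of_pos_left _ (Nat.pos_of_ne_zero hφm))
    omega
  have hm' : m φ * Cfsg.charDegree (φ : G → ℂ) = n := by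
    rw [Finset.sum_eq_zero fun ψ hψ => by rw [hrest ψ hψ, zero_mul]] at hsplit
    simpa using hsplit
  have hmone : m φ = 1 := by
    rcases Nat.lt_or_ge (m φ) 2 with h2 | h2
    · omega
    · nlinarith [Nat.mul_le_mul h2 hφd]
  have hfun : ∀ g, Ψ g = (φ : G → ℂ) g := fun g => by
    rw [hexp g, Finset.sum_eq_single φ]
    · rw [hmone]; simp
    · intro ψ _ hψ
      rw [hrest ψ (Finset.mem_erase.mpr ⟨hψ, Finset.mem_univ _⟩)]; simp
    · simp
  refine ⟨φ, funext fun g => (hfun g).symm, ?_, ?_⟩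
  · rw [hmone, one_mul] at hm'; omega
  · have hz : (φ : G → ℂ) u ≠ 0 := fun e => by
      rw [hfun u, e] at hpos; simp at hpos
    have hne : φ ≠ oneChar G := fun e => by rw [e] at hmone; omega
    rw [hfun u, apply_eq h hne hz]
    rw [hmone, one_mul] at hm'
    rw [hm']

theorem classInner_mul_conj (α β : G → ℂ) :
    Cfsg.classInner (fun g => α g * conj (β g)) (oneChar G : G → ℂ) = Cfsg.classInner α β := by
  simp [Cfsg.classInner]

/-- `|χ|² - 1` is a character without trivial constituent. -/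
theorem adjoint_spec (χ : Cfsg.IrrCharacter G) :
    Cfsg.IsCharacter G (fun g => (χ : G → ℂ) g * conj ((χ : G → ℂ) g) - 1) ∧
      Cfsg.classInner (fun g => (χ : G → ℂ) g * conj ((χ : G → ℂ) g) - 1)
        (oneChar G : G → ℂ) = 0 := by
  have hc : Cfsg.IsCharacter G (fun g => (χ : G → ℂ) g * conj ((χ : G → ℂ) g)) :=
    IsCharacter.mul (isCharacter_irr χ) (IsCharacter.conj' (isCharacter_irr χ))
  have hone : Cfsg.classInner (fun g => (χ : G → ℂ) g * conj ((χ : G → ℂ) g))
      (oneChar G : G → ℂ) = 1 := by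
    rw [classInner_mul_conj, classInner_irr_self χ.2]
  have heq : (fun g => (χ : G → ℂ) g * conj ((χ : G → ℂ) g) - 1) =
      (fun g => (χ : G → ℂ) g * conj ((χ : G → ℂ) g)) - (oneChar G : G → ℂ) := by
    funext g; simp
  rw [heq]
  refine ⟨isCharacter_iff.mpr ⟨(classFunctions G).sub_mem (IsCharacter.isClassFunction hc)
    (IsCharacter.isClassFunction (isCharacter_irr _)), fun φ hφ => ?_⟩, ?_⟩
  · obtain ⟨n, hn⟩ := IsCharacter.classInner_nat hc (IsIrrCharacter.isCharacter hφ)
    rw [classInner_sub_left, hn]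
    by_cases h : (oneChar G : G → ℂ) = φ
    · refine ⟨0, ?_⟩
      subst h
      rw [hone] at hn
      rw [classInner_irr_self hφ, ← hn]; simp
    · exact ⟨n, by rw [classInner_irr_ne (oneChar G).2 hφ h, sub_zero]⟩
  · rw [classInner_sub_left, hone, classInner_irr_self (oneChar G).2, sub_self]

/-- There is no non-trivial value at `u` for degree two. -/
theorem apply_eq_zero_of_deg_two {u : G} (h : Hyp u) {χ : Cfsg.IrrCharacter G}
    (hd : Cfsg.charDegree (χ : G → ℂ) = 2) : (χ : G → ℂ) u = 0 := by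
  by_contra h0
  have hne : χ ≠ oneChar G := fun e => by rw [e, deg_oneChar] at hd; norm_num at hd
  have hv := apply_eq h hne h0
  rw [hd] at hv
  have h1 : (χ : G → ℂ) 1 = 2 := by rw [← deg_cast, hd]; norm_num
  obtain ⟨hA, hA1⟩ := adjoint_spec χ
  obtain ⟨φ, -, h5, -⟩ := eq_irr_of_pos h hA (n := 3)
    (show (χ : G → ℂ) 1 * conj ((χ : G → ℂ) 1) - 1 = ((3 : ℕ) : ℂ) by
      rw [h1, Complex.conj_ofNat]; norm_num) (by norm_num) hA1
    (show 0 < ((χ : G → ℂ) u * conj ((χ : G → ℂ) u) - 1).re by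
      rw [hv]; push_cast; norm_num [Complex.conj_ofNat])
  omega

/-- The characters of degree three with value `-1` at `u`. -/
noncomputable def three (u : G) : Finset (Cfsg.IrrCharacter G) :=
  Finset.univ.filter fun χ => (χ : G → ℂ) 1 = 3 ∧ (χ : G → ℂ) u = -1

theorem mem_three {u : G} {χ : Cfsg.IrrCharacter G} :
    χ ∈ three u ↔ (χ : G → ℂ) 1 = 3 ∧ (χ : G → ℂ) u = -1 := by
  simp [three]

theorem ne_one_of_mem {u : G} {χ : Cfsg.IrrCharacter G} (hχ : χ ∈ three u) :
    χ ≠ oneChar G := fun e => by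
  have := (mem_three.mp hχ).2
  rw [e, coe_oneChar] at this
  norm_num at this

theorem re_deg_mul_nonneg {u : G} (h : Hyp u) {φ : Cfsg.IrrCharacter G} (hφ : φ ∉ three u) :
    0 ≤ ((Cfsg.charDegree (φ : G → ℂ) : ℂ) * (φ : G → ℂ) u).re := by
  by_cases h1 : φ = oneChar G
  · rw [h1, deg_oneChar]; simp
  rcases eq_or_ne ((φ : G → ℂ) u) 0 with h0 | h0
  · simp [h0]
  have hv := apply_eq h h1 h0
  have h2 := two_le_deg h h1
  have hd2 : Cfsg.charDegree (φ : G → ℂ) ≠ 2 := fun e => h0 (apply_eq_zero_of_deg_two h e)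
  have hd3 : Cfsg.charDegree (φ : G → ℂ) ≠ 3 := fun e => hφ (mem_three.mpr
    ⟨by rw [← deg_cast, e]; norm_num, by rw [hv, e]; norm_num⟩)
  have h4 : (4 : ℝ) ≤ (Cfsg.charDegree (φ : G → ℂ) : ℝ) := by exact_mod_cast (by omega : 4 ≤ _)
  rw [hv, show ((Cfsg.charDegree (φ : G → ℂ) : ℂ) * ((Cfsg.charDegree (φ : G → ℂ) : ℂ) - 4)).re =
    (Cfsg.charDegree (φ : G → ℂ) : ℝ) * ((Cfsg.charDegree (φ : G → ℂ) : ℝ) - 4) by simp]
  exact mul_nonneg (by linarith) (by linarith)

/-- The column identity, with the set of degree three separated. -/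
theorem sum_others {u : G} (h : Hyp u) :
    ∑ φ ∈ (Finset.univ \ three u).erase (oneChar G),
      ((Cfsg.charDegree (φ : G → ℂ) : ℂ) * (φ : G → ℂ) u).re = 3 * (three u).card - 1 := by
  have hsum := congrArg Complex.re (sum_deg_mul u h.1)
  rw [Complex.re_sum, Complex.zero_re] at hsum
  have hone : oneChar G ∈ Finset.univ \ three u := by
    simp only [Finset.mem_sdiff, Finset.mem_univ, true_and]
    exact fun hm => ne_one_of_mem hm rfl
  rw [← Finset.sum_sdiff (Finset.subset_univ (three u)),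
    ← Finset.add_sum_erase _ _ hone, deg_oneChar, coe_oneChar] at hsum
  have h3 : ∑ φ ∈ three u, ((Cfsg.charDegree (φ : G → ℂ) : ℂ) * (φ : G → ℂ) u).re =
      -3 * ((three u).card : ℝ) := by
    rw [Finset.sum_congr rfl (g := fun _ => (-3 : ℝ)) fun φ hφ => by
      rw [deg_cast, (mem_three.mp hφ).1, (mem_three.mp hφ).2]; norm_num]
    simp [mul_comm]
  rw [h3] at hsum
  simp only [Nat.cast_one, mul_one, Complex.one_re] at hsum
  linarith

/-- A lower bound from distinguished characters. -/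
theorem sum_le {u : G} (h : Hyp u) (P : Finset (Cfsg.IrrCharacter G)) (hP : ∀ φ ∈ P,
    φ ∉ three u ∧ φ ≠ oneChar G) :
    ∑ φ ∈ P, ((Cfsg.charDegree (φ : G → ℂ) : ℂ) * (φ : G → ℂ) u).re ≤ 3 * (three u).card - 1 := by
  rw [← sum_others h]
  refine Finset.sum_le_sum_of_subset_of_nonneg (fun φ hφ => ?_) fun φ hφ _ => ?_
  · simp [(hP φ hφ).1, (hP φ hφ).2]
  · refine re_deg_mul_nonneg h ?_
    have := Finset.mem_of_mem_erase hφ
    exact (Finset.mem_sdiff.mp this).2

/-- There is a character of degree three with value `-1`. -/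
theorem three_nonempty {u : G} (h : Hyp u) : (three u).Nonempty := by
  have := sum_le h ∅ (by simp)
  simp only [Finset.sum_empty] at this
  refine Finset.card_pos.mp ?_
  by_contra hc
  have h0 : ((three u).card : ℝ) = 0 := by exact_mod_cast (by omega : (three u).card = 0)
  rw [h0] at this
  norm_num at this

/-- The eigenvalues of an element in a representation of degree three of a perfect group. -/
theorem exists_triple {u : G} (h : Hyp u) {χ : Cfsg.IrrCharacter G} (h3 : (χ : G → ℂ) 1 = 3)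
    (g : G) : ∃ a b c : ℂ, a ^ orderOf g = 1 ∧ b ^ orderOf g = 1 ∧ c ^ orderOf g = 1 ∧
      a * b * c = 1 ∧ ∀ k : ℕ, (χ : G → ℂ) (g ^ k) = a ^ k + b ^ k + c ^ k := by
  obtain ⟨n, ρ, hirr, hρ⟩ := χ.2
  have hfin : Module.finrank ℂ (Fin n → ℂ) = 3 := by
    have h1 := Representation.char_one ρ
    rw [congrFun hρ 1, h3] at h1
    exact_mod_cast h1.symm
  obtain ⟨b, μ, hμ, hk⟩ := exists_eigenbasis ρ g
  have hdet : ∏ i, μ i = 1 := by
    let δ : G →* ℂ := (LinearMap.det).comp ρ
    have hδ : δ g = 1 := by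
      have hker : commutator G ≤ δ.toHomUnits.ker := Abelianization.commutator_subset_ker _
      rw [perfect h] at hker
      have := hker (Subgroup.mem_top g)
      rw [MonoidHom.mem_ker] at this
      simpa using congrArg Units.val this
    have hd : LinearMap.det (ρ g) = ∏ i, μ i := by
      rw [← LinearMap.det_toMatrix b]
      have : LinearMap.toMatrix b b (ρ g) = Matrix.diagonal μ := by
        ext i j
        have := hk 1 j
        rw [pow_one, pow_one] at this
        rw [LinearMap.toMatrix_apply, this, map_smul, Module.Basis.repr_self]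
        by_cases hij : i = j
        · subst hij; simp
        · simp [Matrix.diagonal_apply_ne _ hij, Finsupp.single_eq_of_ne hij]
      rw [this, Matrix.det_diagonal]
    rw [← hd]
    exact hδ
  have htr : ∀ k : ℕ, (χ : G → ℂ) (g ^ k) = ∑ i, μ i ^ k := fun k => by
    rw [← hρ]
    exact trace_eq_sum_of_eigen _ b _ (hk k)
  revert b μ
  rw [hfin]
  intro b μ hμ hk hdet htr
  refine ⟨μ 0, μ 1, μ 2, hμ 0, hμ 1, hμ 2, ?_, fun k => ?_⟩
  · rw [← hdet, Fin.prod_univ_three]
  · rw [htr k, Fin.sum_univ_three]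

theorem conj_root {z : ℂ} {n : ℕ} (hn : n ≠ 0) (hz : z ^ n = 1) : conj z = z⁻¹ := by
  rw [Complex.inv_def, Complex.normSq_eq_norm_sq, Complex.norm_eq_one_of_pow_eq_one hz hn]
  simp

/-- The alternating square of a character of degree three is its conjugate. -/
theorem apply_sq {u : G} (h : Hyp u) {χ : Cfsg.IrrCharacter G} (h3 : (χ : G → ℂ) 1 = 3) (g : G) :
    (χ : G → ℂ) (g * g) = (χ : G → ℂ) g ^ 2 - 2 * conj ((χ : G → ℂ) g) := by
  obtain ⟨a, b, c, ha, hb, hc, habc, hk⟩ := exists_triple h h3 g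
  have h0 := (orderOf_pos g).ne'
  have e1 := hk 1
  have e2 := hk 2
  rw [pow_one] at e1
  rw [← sq, e2, e1, map_add, map_add, pow_one, pow_one, pow_one, conj_root h0 ha, conj_root h0 hb,
    conj_root h0 hc]
  have hia : a⁻¹ = b * c := inv_eq_of_mul_eq_one_right (by rw [← habc]; ring)
  have hib : b⁻¹ = a * c := inv_eq_of_mul_eq_one_right (by rw [← habc]; ring)
  have hic : c⁻¹ = a * b := inv_eq_of_mul_eq_one_right (by rw [← habc]; ring)
  rw [hia, hib, hic]
  ring

theorem apply_u_sq {u : G} (h : Hyp u) {χ : Cfsg.IrrCharacter G} (hχ : χ ∈ three u) :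
    (χ : G → ℂ) (u * u) = (χ : G → ℂ) 1 := by
  rw [apply_sq h (mem_three.mp hχ).1, (mem_three.mp hχ).2, (mem_three.mp hχ).1]
  simp; norm_num

/-- A character is real. -/
def RealValued (χ : Cfsg.IrrCharacter G) : Prop :=
  ∀ g, conj ((χ : G → ℂ) g) = (χ : G → ℂ) g

theorem classInner_sq_one (χ : Cfsg.IrrCharacter G) :
    Cfsg.classInner (fun g => (χ : G → ℂ) g ^ 2) (oneChar G : G → ℂ) =
      if RealValued χ then 1 else 0 := by
  have e : (fun g => (χ : G → ℂ) g ^ 2) =
      fun g => (χ : G → ℂ) g * conj ((fun g => conj ((χ : G → ℂ) g)) g) := by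
    funext g; simp [sq]
  rw [e, classInner_mul_conj]
  split_ifs with hr
  · rw [show (fun g => conj ((χ : G → ℂ) g)) = (χ : G → ℂ) from funext hr]
    exact classInner_irr_self χ.2
  · exact classInner_irr_ne χ.2 (IsIrrCharacter.conj' χ.2) fun e' => hr fun g => (congrFun e' g).symm

theorem isCharacter_sq_sub_conj {u : G} (h : Hyp u) {χ : Cfsg.IrrCharacter G}
    (h3 : (χ : G → ℂ) 1 = 3) :
    Cfsg.IsCharacter G (fun g => (χ : G → ℂ) g ^ 2 - conj ((χ : G → ℂ) g)) := by
  convert isCharacter_symSquare (isCharacter_irr χ) using 1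
  funext g
  rw [apply_sq h h3 g]
  ring

/-- The symmetric square of a non-real member. -/
theorem sym_nonreal {u : G} (h : Hyp u) {χ : Cfsg.IrrCharacter G} (hχ : χ ∈ three u)
    (hr : ¬ RealValued χ) : ∃ Φ : Cfsg.IrrCharacter G,
      (∀ g, (Φ : G → ℂ) g = (χ : G → ℂ) g ^ 2 - conj ((χ : G → ℂ) g)) ∧
      Cfsg.charDegree (Φ : G → ℂ) = 6 ∧ (Φ : G → ℂ) u = 2 := by
  obtain ⟨h3, hv⟩ := mem_three.mp hχ
  have h0 : Cfsg.classInner (fun g => (χ : G → ℂ) g ^ 2 - conj ((χ : G → ℂ) g))
      (oneChar G : G → ℂ) = 0 := by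
    rw [show (fun g => (χ : G → ℂ) g ^ 2 - conj ((χ : G → ℂ) g)) =
        (fun g => (χ : G → ℂ) g ^ 2) - fun g => conj ((χ : G → ℂ) g) from rfl,
      classInner_sub_left, classInner_sq_one, if_neg hr,
      classInner_irr_ne (IsIrrCharacter.conj' χ.2) (oneChar G).2 fun e => ?_, sub_zero]
    have := congrFun e 1
    simp [h3, Complex.conj_ofNat] at this
  have hone : (fun g => (χ : G → ℂ) g ^ 2 - conj ((χ : G → ℂ) g)) 1 = ((6 : ℕ) : ℂ) := by
    simp [h3, Complex.conj_ofNat]; norm_num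
  obtain ⟨φ, hφ, -, hu⟩ := eq_irr_of_pos h (isCharacter_sq_sub_conj h h3) hone le_rfl h0
    (by simp [hv])
  refine ⟨φ, fun g => congrFun hφ g, ?_, ?_⟩
  · have := congrFun hφ 1
    rw [← deg_cast] at this
    exact_mod_cast this.trans hone
  · rw [congrFun hφ u, hu]; norm_num

/-- The symmetric square of a real member, without its trivial constituent. -/
theorem sym_real {u : G} (h : Hyp u) {χ : Cfsg.IrrCharacter G} (hχ : χ ∈ three u)
    (hr : RealValued χ) : ∃ Φ : Cfsg.IrrCharacter G,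
      (∀ g, (Φ : G → ℂ) g = (χ : G → ℂ) g ^ 2 - (χ : G → ℂ) g - 1) ∧
      Cfsg.charDegree (Φ : G → ℂ) = 5 ∧ (Φ : G → ℂ) u = 1 := by
  obtain ⟨h3, hv⟩ := mem_three.mp hχ
  have hc := isCharacter_sq_sub_conj h h3
  have heq : (fun g => (χ : G → ℂ) g ^ 2 - (χ : G → ℂ) g - 1) =
      (fun g => (χ : G → ℂ) g ^ 2 - conj ((χ : G → ℂ) g)) - (oneChar G : G → ℂ) := by
    funext g; simp [hr g]
  have hi : Cfsg.classInner (fun g => (χ : G → ℂ) g ^ 2 - conj ((χ : G → ℂ) g))
      (oneChar G : G → ℂ) = 1 := by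
    rw [show (fun g => (χ : G → ℂ) g ^ 2 - conj ((χ : G → ℂ) g)) =
        (fun g => (χ : G → ℂ) g ^ 2) - fun g => conj ((χ : G → ℂ) g) from rfl,
      classInner_sub_left, classInner_sq_one, if_pos hr,
      classInner_irr_ne (IsIrrCharacter.conj' χ.2) (oneChar G).2 fun e => ?_, sub_zero]
    have := congrFun e 1
    simp [h3, Complex.conj_ofNat] at this
  have hc' : Cfsg.IsCharacter G (fun g => (χ : G → ℂ) g ^ 2 - (χ : G → ℂ) g - 1) := by
    rw [heq]
    refine isCharacter_iff.mpr ⟨(classFunctions G).sub_mem (IsCharacter.isClassFunction hc)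
      (IsCharacter.isClassFunction (isCharacter_irr _)), fun φ hφ => ?_⟩
    obtain ⟨n, hn⟩ := IsCharacter.classInner_nat hc (IsIrrCharacter.isCharacter hφ)
    rw [classInner_sub_left, hn]
    by_cases he : (oneChar G : G → ℂ) = φ
    · refine ⟨0, ?_⟩
      subst he
      rw [hi] at hn
      rw [classInner_irr_self hφ, ← hn]; simp
    · exact ⟨n, by rw [classInner_irr_ne (oneChar G).2 hφ he, sub_zero]⟩
  have h0 : Cfsg.classInner (fun g => (χ : G → ℂ) g ^ 2 - (χ : G → ℂ) g - 1)
      (oneChar G : G → ℂ) = 0 := by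
    rw [heq, classInner_sub_left, hi, classInner_irr_self (oneChar G).2, sub_self]
  have hone : (fun g => (χ : G → ℂ) g ^ 2 - (χ : G → ℂ) g - 1) 1 = ((5 : ℕ) : ℂ) := by
    simp [h3]; norm_num
  obtain ⟨φ, hφ, -, hu⟩ := eq_irr_of_pos h hc' hone (by norm_num) h0
    (by simp [hv])
  refine ⟨φ, fun g => congrFun hφ g, ?_, ?_⟩
  · have := congrFun hφ 1
    rw [← deg_cast] at this
    exact_mod_cast this.trans hone
  · rw [congrFun hφ u, hu]; norm_num

/-- The adjoint character of a non-real member is irreducible. -/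
theorem adjoint_irr {u : G} (h : Hyp u) {χ : Cfsg.IrrCharacter G} (hχ : χ ∈ three u)
    (hr : ¬ RealValued χ) : ∃ A : Cfsg.IrrCharacter G,
      (∀ g, (A : G → ℂ) g = (χ : G → ℂ) g * conj ((χ : G → ℂ) g) - 1) ∧
      (A : G → ℂ) 1 = 8 := by
  obtain ⟨Φ, hΦ, hΦd, -⟩ := sym_nonreal h hχ hr
  obtain ⟨h3, -⟩ := mem_three.mp hχ
  obtain ⟨hA, hA1⟩ := adjoint_spec χ
  set A : G → ℂ := fun g => (χ : G → ℂ) g * conj ((χ : G → ℂ) g) - 1 with hAdef
  set cχ : G → ℂ := fun g => conj ((χ : G → ℂ) g) with hcdef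
  have hne : (Φ : G → ℂ) ≠ cχ := fun e => by
    have := congrFun e 1
    rw [← deg_cast, hΦd, hcdef] at this
    simp [h3, Complex.conj_ofNat] at this
  have hsq : Cfsg.classInner ((Φ : G → ℂ) + cχ) ((Φ : G → ℂ) + cχ) = 2 := by
    rw [classInner_add_left, classInner_add_right, classInner_add_right,
      classInner_irr_self Φ.2, classInner_irr_self (IsIrrCharacter.conj' χ.2),
      classInner_irr_ne Φ.2 (IsIrrCharacter.conj' χ.2) hne,
      classInner_irr_ne (IsIrrCharacter.conj' χ.2) Φ.2 (Ne.symm hne)]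
    norm_num
  have hnorm : Cfsg.classInner (A + (oneChar G : G → ℂ)) (A + (oneChar G : G → ℂ)) =
      Cfsg.classInner ((Φ : G → ℂ) + cχ) ((Φ : G → ℂ) + cχ) := by
    simp only [Cfsg.classInner, Pi.add_apply, hAdef, hcdef, hΦ, coe_oneChar, sub_add_cancel,
      map_mul, map_pow, Complex.conj_conj]
    exact congrArg _ (Finset.sum_congr rfl fun g _ => by ring)
  rw [hsq, classInner_add_left, classInner_add_right, classInner_add_right,
    classInner_irr_self (oneChar G).2, hA1,
    IsCharacter.classInner_comm (isCharacter_irr (oneChar G)) hA, hA1] at hnorm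
  have h1 : Cfsg.classInner A A = 1 := by linear_combination hnorm
  refine ⟨⟨A, IsCharacter.isIrrCharacter_of_norm_one hA h1⟩, fun g => rfl, ?_⟩
  show (χ : G → ℂ) 1 * conj ((χ : G → ℂ) 1) - 1 = 8
  rw [h3, Complex.conj_ofNat]; norm_num

/-- Two members have adjoint characters that are not orthogonal. -/
theorem classInner_adjoint_ne {u : G} (h : Hyp u) {χ χ' : Cfsg.IrrCharacter G}
    (hχ : χ ∈ three u) (hχ' : χ' ∈ three u) :
    Cfsg.classInner (fun g => (χ : G → ℂ) g * conj ((χ : G → ℂ) g) - 1)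
      (fun g => (χ' : G → ℂ) g * conj ((χ' : G → ℂ) g) - 1) ≠ 0 := by
  intro h0
  obtain ⟨h3, hv⟩ := mem_three.mp hχ
  obtain ⟨h3', hv'⟩ := mem_three.mp hχ'
  obtain ⟨hA, hA1⟩ := adjoint_spec χ
  obtain ⟨hA', hA1'⟩ := adjoint_spec χ'
  set A : G → ℂ := fun g => (χ : G → ℂ) g * conj ((χ : G → ℂ) g) - 1 with hAdef
  set A' : G → ℂ := fun g => (χ' : G → ℂ) g * conj ((χ' : G → ℂ) g) - 1 with hAdef'
  let X : G → ℂ := fun g => (χ : G → ℂ) g * conj ((χ' : G → ℂ) g)
  have hX : Cfsg.IsCharacter G X :=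
    IsCharacter.mul (isCharacter_irr χ) (IsCharacter.conj' (isCharacter_irr χ'))
  have hn : Cfsg.classInner X X =
      Cfsg.classInner (A + (oneChar G : G → ℂ)) (A' + (oneChar G : G → ℂ)) := by
    simp only [Cfsg.classInner, Pi.add_apply, hAdef, hAdef', X, coe_oneChar, sub_add_cancel,
      map_mul, Complex.conj_conj]
    exact congrArg _ (Finset.sum_congr rfl fun g _ => by ring)
  rw [classInner_add_left, classInner_add_right, classInner_add_right,
    classInner_irr_self (oneChar G).2, h0, hA1,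
    IsCharacter.classInner_comm (isCharacter_irr (oneChar G)) hA', hA1'] at hn
  simp only [add_zero, zero_add] at hn
  let ξ : Cfsg.IrrCharacter G := ⟨X, IsCharacter.isIrrCharacter_of_norm_one hX hn⟩
  have hne : ξ ≠ oneChar G := fun e => by
    have := congrFun (congrArg Subtype.val e) u
    change X u = _ at this
    have h1 := congrFun (congrArg Subtype.val e) 1
    change X 1 = _ at h1
    norm_num [X, h3, h3', Complex.conj_ofNat] at h1
  rcases h.2 ξ hne with he | he
  · change X 1 - X u = 4 at he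
    simp [X, h3, h3', hv, hv', Complex.conj_ofNat] at he
    norm_num at he
  · change X u = 0 at he
    simp [X, hv, hv'] at he

/-- All members are real, or none is; the squares are then common. -/
theorem pair {u : G} (h : Hyp u) {χ χ' : Cfsg.IrrCharacter G}
    (hχ : χ ∈ three u) (hχ' : χ' ∈ three u) :
    (RealValued χ ↔ RealValued χ') ∧
    (RealValued χ → ∀ g, (χ' : G → ℂ) g ^ 2 - (χ' : G → ℂ) g =
      (χ : G → ℂ) g ^ 2 - (χ : G → ℂ) g) ∧
    (¬ RealValued χ → ∀ g, (χ' : G → ℂ) g * conj ((χ' : G → ℂ) g) =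
      (χ : G → ℂ) g * conj ((χ : G → ℂ) g)) := by
  have hne := classInner_adjoint_ne h hχ hχ'
  have hmix : ∀ {α β : Cfsg.IrrCharacter G}, α ∈ three u → β ∈ three u → RealValued α →
      ¬ RealValued β → False := by
    intro α β hα hβ hra hrb
    refine classInner_adjoint_ne h hα hβ ?_
    obtain ⟨Φ, hΦ, hΦd, -⟩ := sym_real h hα hra
    obtain ⟨A, hA, hA1⟩ := adjoint_irr h hβ hrb
    rw [show (fun g => (β : G → ℂ) g * conj ((β : G → ℂ) g) - 1) = (A : G → ℂ) from
      funext fun g => (hA g).symm,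
      show (fun g => (α : G → ℂ) g * conj ((α : G → ℂ) g) - 1) = (α : G → ℂ) + (Φ : G → ℂ) from
      funext fun g => by rw [Pi.add_apply, hΦ g, hra g]; ring,
      classInner_add_left, classInner_irr_ne α.2 A.2 fun e => ?_,
      classInner_irr_ne Φ.2 A.2 fun e => ?_, add_zero]
    · have := congrFun e 1
      rw [hA1, ← deg_cast, hΦd] at this
      norm_num at this
    · have := congrFun e 1
      rw [hA1, (mem_three.mp hα).1] at this
      norm_num at this
  have hiff : RealValued χ ↔ RealValued χ' :=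
    ⟨fun hr => by_contra fun hr' => hmix hχ hχ' hr hr',
      fun hr' => by_contra fun hr => hmix hχ' hχ hr' hr⟩
  refine ⟨hiff, fun hr g => ?_, fun hr g => ?_⟩
  · obtain ⟨Φ, hΦ, hΦd, -⟩ := sym_real h hχ hr
    obtain ⟨Φ', hΦ', hΦd', -⟩ := sym_real h hχ' (hiff.mp hr)
    by_cases hcc : χ = χ'
    · subst hcc; rfl
    by_cases hPP : Φ = Φ'
    · have := hΦ g
      rw [hPP, hΦ' g] at this
      linear_combination this
    exfalso
    apply hne
    rw [show (fun g => (χ : G → ℂ) g * conj ((χ : G → ℂ) g) - 1) = (χ : G → ℂ) + (Φ : G → ℂ) from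
      funext fun g => by rw [Pi.add_apply, hΦ g, hr g]; ring,
      show (fun g => (χ' : G → ℂ) g * conj ((χ' : G → ℂ) g) - 1) = (χ' : G → ℂ) + (Φ' : G → ℂ) from
      funext fun g => by rw [Pi.add_apply, hΦ' g, hiff.mp hr g]; ring,
      classInner_add_left, classInner_add_right, classInner_add_right,
      classInner_irr_ne χ.2 χ'.2 fun e => hcc (Subtype.ext e),
      classInner_irr_ne Φ.2 Φ'.2 fun e => hPP (Subtype.ext e),
      classInner_irr_ne χ.2 Φ'.2 fun e => ?_, classInner_irr_ne Φ.2 χ'.2 fun e => ?_]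
    · simp
    · have := congrFun e 1
      rw [(mem_three.mp hχ').1, ← deg_cast, hΦd] at this
      norm_num at this
    · have := congrFun e 1
      rw [(mem_three.mp hχ).1, ← deg_cast, hΦd'] at this
      norm_num at this
  · obtain ⟨A, hA, -⟩ := adjoint_irr h hχ hr
    obtain ⟨A', hA', -⟩ := adjoint_irr h hχ' (fun h' => hr (hiff.mpr h'))
    by_cases hAA : A = A'
    · have := hA g
      rw [hAA, hA' g] at this
      linear_combination this
    exfalso
    apply hne
    rw [show (fun g => (χ : G → ℂ) g * conj ((χ : G → ℂ) g) - 1) = (A : G → ℂ) from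
        funext fun g => (hA g).symm,
      show (fun g => (χ' : G → ℂ) g * conj ((χ' : G → ℂ) g) - 1) = (A' : G → ℂ) from
        funext fun g => (hA' g).symm]
    exact classInner_irr_ne A.2 A'.2 fun e => hAA (Subtype.ext e)

theorem map_conj_apply (σ : ℂ ≃+* ℂ) (χ : Cfsg.IrrCharacter G) (g : G) :
    σ (conj ((χ : G → ℂ) g)) = conj ((Rationality.galIrr σ χ : G → ℂ) g) := by
  rw [← IsIrrCharacter.apply_inv χ.2, ← Rationality.galIrr_apply,
    IsIrrCharacter.apply_inv (Rationality.galIrr σ χ).2]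

theorem galIrr_mem {u : G} (σ : ℂ ≃+* ℂ) {χ : Cfsg.IrrCharacter G} (hχ : χ ∈ three u) :
    Rationality.galIrr σ χ ∈ three u := by
  rw [mem_three, Rationality.galIrr_apply, Rationality.galIrr_apply, (mem_three.mp hχ).1,
    (mem_three.mp hχ).2]
  exact ⟨map_ofNat σ 3, by simp⟩

/-- The absolute squares of a non-real member are rational integers. -/
theorem exists_int_normSq {u : G} (h : Hyp u) {χ : Cfsg.IrrCharacter G} (hχ : χ ∈ three u)
    (hr : ¬ RealValued χ) (g : G) :
    ∃ n : ℤ, (χ : G → ℂ) g * conj ((χ : G → ℂ) g) = n := by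
  refine Rationality.exists_int_of_fixed (IsIntegral.mul
    (IsCharacter.isIntegral (isCharacter_irr χ) g)
    (IsCharacter.isIntegral (IsCharacter.conj' (isCharacter_irr χ)) g)) fun σ => ?_
  rw [map_mul, map_conj_apply, ← Rationality.galIrr_apply,
    (pair h hχ (galIrr_mem σ hχ)).2.2 hr g]

/-- The values `χ² - χ` of a real member are rational integers. -/
theorem exists_int_sq_sub {u : G} (h : Hyp u) {χ : Cfsg.IrrCharacter G} (hχ : χ ∈ three u)
    (hr : RealValued χ) (g : G) :
    ∃ n : ℤ, (χ : G → ℂ) g ^ 2 - (χ : G → ℂ) g = n := by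
  refine Rationality.exists_int_of_fixed (((IsCharacter.isIntegral (isCharacter_irr χ) g).pow 2).sub
    (IsCharacter.isIntegral (isCharacter_irr χ) g)) fun σ => ?_
  rw [map_sub, map_pow, ← Rationality.galIrr_apply, (pair h hχ (galIrr_mem σ hχ)).2.1 hr g]

/-- The hypothesis passes to quotients not killing `u`. -/
theorem Hyp.quotient {u : G} (h : Hyp u) (K : Subgroup G) [K.Normal] (hu : u ∉ K) :
    Hyp (QuotientGroup.mk' K u) := by
  refine ⟨fun e => hu ((QuotientGroup.eq_one_iff u).mp e), fun ψ hψ => ?_⟩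
  let χ : Cfsg.IrrCharacter G :=
    ⟨(ψ : G ⧸ K → ℂ) ∘ QuotientGroup.mk' K,
      IsIrrCharacter.comp_surjective ψ.2 _ (QuotientGroup.mk'_surjective K)⟩
  have hne : χ ≠ oneChar G := fun e => hψ (Subtype.ext (funext fun x => by
    obtain ⟨g, rfl⟩ := QuotientGroup.mk'_surjective K x
    exact congrFun (congrArg Subtype.val e) g))
  have := h.2 χ hne
  simpa [χ] using this

end CfsgLib.DegreeTools.FeitFour
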