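import Cfsg.Agent.Lib.DegreeTools.FeitFour.Tools
import Cfsg.Agent.S0144
import Cfsg.Agent.S0494
import Cfsg.Agent.Lib.Recognition.Zassenhaus.OneTwenty

/-!
# A faithful real member: the icosahedral group
-/

set_option autoImplicit false
set_option linter.style.haveILetI false

namespace CfsgLib.DegreeTools.FeitFour

open CfsgLib CfsgLib.Char CfsgLib.DegreeTools
open scoped Classical ComplexConjugate

variable {G : Type*} [Group G] [Fintype G]

theorem orderOf_eq_of_isConj {g k : G} (h : IsConj g k) : orderOf g = orderOf k := by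
  obtain ⟨c, rfl⟩ := isConj_iff.mp h
  exact ((MulAut.conj c).orderOf_eq g).symm

theorem ne_zero_of_pow {z : ℂ} {g : G} (h : z ^ orderOf g = 1) : z ≠ 0 := fun e => by
  rw [e, zero_pow (orderOf_pos g).ne'] at h
  exact zero_ne_one h

/-- Two ones and product one among three numbers. -/
theorem sum_eq_three {f : Fin 3 → ℂ} {i j : Fin 3} (hij : i ≠ j) (hi : f i = 1) (hj : f j = 1)
    (hprod : f 0 * f 1 * f 2 = 1) : f 0 + f 1 + f 2 = 3 := by
  fin_cases i <;> fin_cases j <;>
    simp only [Fin.isValue, Fin.zero_eta, Fin.mk_one, Fin.reduceFinMk, ne_eq, not_true_eq_false,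
      not_false_eq_true] at hij hi hj <;>
    rw [hi, hj] at hprod <;> rw [hi, hj] <;> simp only [one_mul, mul_one] at hprod <;> rw [hprod] <;>
    norm_num

/-- An element has the eigenvalue `1` in a real representation of degree three. -/
theorem one_mem_eigen {χ : Cfsg.IrrCharacter G} (hr : RealValued χ) {g : G} {μ : Fin 3 → ℂ}
    {n : ℕ} (hn : n ≠ 0) (hμ : ∀ i, μ i ^ n = 1) (hd : μ 0 * μ 1 * μ 2 = 1)
    (hk : (χ : G → ℂ) g = ∑ i, μ i) : ∃ i, μ i = 1 := by
  have h := hr g
  rw [hk, map_sum, Fin.sum_univ_three, Fin.sum_univ_three, conj_root hn (hμ 0),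
    conj_root hn (hμ 1), conj_root hn (hμ 2)] at h
  have hi0 : (μ 0)⁻¹ = μ 1 * μ 2 := inv_eq_of_mul_eq_one_right (by rw [← hd]; ring)
  have hi1 : (μ 1)⁻¹ = μ 0 * μ 2 := inv_eq_of_mul_eq_one_right (by rw [← hd]; ring)
  have hi2 : (μ 2)⁻¹ = μ 0 * μ 1 := inv_eq_of_mul_eq_one_right (by rw [← hd]; ring)
  rw [hi0, hi1, hi2] at h
  have : (μ 0 - 1) * ((μ 1 - 1) * (μ 2 - 1)) = 0 := by linear_combination hd - h
  simp only [mul_eq_zero, sub_eq_zero] at this
  rcases this with h | h | h
  exacts [⟨0, h⟩, ⟨1, h⟩, ⟨2, h⟩]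

/-- The eigenvalues of an element in a real representation of degree three. -/
theorem exists_real_eigen {u : G} (h : Hyp u) {χ : Cfsg.IrrCharacter G}
    (h3 : (χ : G → ℂ) 1 = 3) (hr : RealValued χ) (g : G) :
    ∃ a : ℂ, a ^ orderOf g = 1 ∧ ∀ k : ℕ, (χ : G → ℂ) (g ^ k) = 1 + a ^ k + (a ^ k)⁻¹ := by
  obtain ⟨μ, ν, hμ, -, hd, -, hij⟩ := exists_joint h h3 (Commute.one_right g)
  have hk : ∀ k : ℕ, (χ : G → ℂ) (g ^ k) = μ 0 ^ k + μ 1 ^ k + μ 2 ^ k := fun k => by
    simpa [Fin.sum_univ_three] using hij k 0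
  obtain ⟨i, hi⟩ := one_mem_eigen hr (orderOf_pos g).ne' hμ hd (by
    have := hk 1
    simpa [Fin.sum_univ_three] using this)
  have hgen : ∀ b c : ℂ, b * c = 1 → ∀ k : ℕ, c ^ k = (b ^ k)⁻¹ := fun b c e k =>
    eq_inv_of_mul_eq_one_right (by rw [← mul_pow, e, one_pow])
  fin_cases i <;> simp only [Fin.isValue, Fin.zero_eta, Fin.mk_one, Fin.reduceFinMk] at hi
  · rw [hi, one_mul] at hd
    exact ⟨μ 1, hμ 1, fun k => by rw [hk, hi, one_pow, hgen _ _ hd k]⟩
  · rw [hi, mul_one] at hd
    exact ⟨μ 0, hμ 0, fun k => by rw [hk, hi, one_pow, hgen _ _ hd k]; ring⟩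
  · rw [hi, mul_one] at hd
    exact ⟨μ 0, hμ 0, fun k => by rw [hk, hi, one_pow, hgen _ _ hd k]; ring⟩

/-- A primitive root of unity has no vanishing rational polynomial of low degree. -/
theorem cyclo_bound {a : ℂ} {n : ℕ} (hn : 0 < n) (ha : orderOf a = n) (P : Polynomial ℚ)
    (hP : P ≠ 0) (h : Polynomial.aeval a P = 0) : n.totient ≤ P.natDegree := by
  have hprim : IsPrimitiveRoot a n := IsPrimitiveRoot.iff_orderOf.mpr ha
  have hmin := Polynomial.cyclotomic_eq_minpoly_rat hprim hn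
  have := Polynomial.natDegree_le_of_dvd (hmin ▸ minpoly.dvd ℚ a h) hP
  rwa [Polynomial.natDegree_cyclotomic] at this

/-- The consequences of exactly two members of degree three. -/
theorem rigid {u : G} (h : Hyp u) {χ : Cfsg.IrrCharacter G} (hχ : χ ∈ three u)
    (hr : RealValued χ) (hb : (three u).card = 2) :
    Nat.card (Subgroup.centralizer ({u} : Set G)) = 4 ∧
    ∀ g : G, ¬ IsConj g u →
      1 - ∑ φ ∈ three u, (φ : G → ℂ) g + ((χ : G → ℂ) g ^ 2 - (χ : G → ℂ) g - 1) = 0 := by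
  obtain ⟨Φ, hΦ, hΦd, hΦu⟩ := sym_real h hχ hr
  have hΦ3 : Φ ∉ three u := fun hm => by
    rw [(mem_three.mp hm).2] at hΦu
    norm_num at hΦu
  have hΦ1 : Φ ≠ oneChar G := fun e => by
    rw [e, deg_oneChar] at hΦd
    norm_num at hΦd
  have hone : oneChar G ∉ three u := fun hm => ne_one_of_mem hm rfl
  have hsum := sum_others h
  have hΦmem : Φ ∈ (Finset.univ \ three u).erase (oneChar G) := by simp [hΦ3, hΦ1]
  rw [← Finset.add_sum_erase _ _ hΦmem, hb, hΦd, hΦu] at hsum
  have hrest : ∑ φ ∈ ((Finset.univ \ three u).erase (oneChar G)).erase Φ,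
      ((Cfsg.charDegree (φ : G → ℂ) : ℂ) * (φ : G → ℂ) u).re = 0 := by
    push_cast at hsum
    norm_num at hsum
    simpa using hsum
  have hvan : ∀ φ : Cfsg.IrrCharacter G, φ ∉ three u → φ ≠ oneChar G → φ ≠ Φ →
      (φ : G → ℂ) u = 0 := by
    intro φ h3 h1 hP
    by_contra h0
    have hz := (Finset.sum_eq_zero_iff_of_nonneg fun ψ hψ => re_deg_mul_nonneg h
      (Finset.mem_sdiff.mp (Finset.mem_of_mem_erase (Finset.mem_of_mem_erase hψ))).2).mp hrest φ
      (by simp [h3, h1, hP])
    have hv := apply_eq h h1 h0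
    rw [hv] at h0 hz
    simp at hz
    rcases hz with hz | hz
    · exact (deg_pos φ).ne' hz
    · exact h0 (by
        have : (Cfsg.charDegree (φ : G → ℂ) : ℝ) = ((4 : ℕ) : ℝ) := by push_cast; linarith
        rw [Nat.cast_inj] at this
        rw [this]; norm_num)
  have hcol : ∀ g : G, ∑ φ : Cfsg.IrrCharacter G, (φ : G → ℂ) g * conj ((φ : G → ℂ) u) =
      1 - ∑ φ ∈ three u, (φ : G → ℂ) g + (Φ : G → ℂ) g := by
    intro g
    have hsub : ∀ φ ∈ Finset.univ, φ ∉ insert (oneChar G) (insert Φ (three u)) →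
        (φ : G → ℂ) g * conj ((φ : G → ℂ) u) = 0 := fun φ _ hφ => by
      simp only [Finset.mem_insert, not_or] at hφ
      rw [hvan φ hφ.2.2 hφ.1 hφ.2.1, map_zero, mul_zero]
    rw [← Finset.sum_subset (Finset.subset_univ (insert (oneChar G) (insert Φ (three u)))) hsub,
      Finset.sum_insert (by simp [hone, Ne.symm hΦ1]), Finset.sum_insert hΦ3, hΦu, map_one,
      coe_oneChar, coe_oneChar, map_one,
      Finset.sum_congr rfl fun φ hφ => by rw [(mem_three.mp hφ).2, map_neg, map_one, mul_neg_one],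
      Finset.sum_neg_distrib]
    ring
  refine ⟨?_, fun g hg => ?_⟩
  · haveI := Classical.dec (IsConj u u)
    have h1 := sum_irr_mul_conj u u
    rw [if_pos (IsConj.refl u), hcol u, hΦu,
      Finset.sum_congr rfl fun φ hφ => (mem_three.mp hφ).2, Finset.sum_const, hb] at h1
    norm_num at h1
    exact_mod_cast h1.symm
  · haveI := Classical.dec (IsConj g u)
    have h1 := sum_irr_mul_conj g u
    rw [if_neg hg, hcol g, hΦ g] at h1
    exact h1

/-- The setting of a real faithful member. -/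
structure RE (u : G) (χ : Cfsg.IrrCharacter G) : Prop where
  hyp : Hyp u
  mem : χ ∈ three u
  real : RealValued χ
  faithful : ∀ g : G, (χ : G → ℂ) g = (χ : G → ℂ) 1 → g = 1

namespace RE

variable {u : G} {χ : Cfsg.IrrCharacter G} (D : RE u χ)
include D

theorem deg : (χ : G → ℂ) 1 = 3 := (mem_three.mp D.mem).1

theorem spec (g : G) : ∃ (a : ℂ) (f : ℤ), orderOf a = orderOf g ∧ a ≠ 0 ∧
    (χ : G → ℂ) g = 1 + a + a⁻¹ ∧ (f : ℂ) = (χ : G → ℂ) g ^ 2 - (χ : G → ℂ) g ∧
    a ^ 4 + a ^ 3 + (2 - (f : ℂ)) * a ^ 2 + a + 1 = 0 ∧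
    ∀ k : ℕ, (χ : G → ℂ) (g ^ k) = 1 + a ^ k + (a ^ k)⁻¹ := by
  obtain ⟨a, ha, hk⟩ := exists_real_eigen D.hyp D.deg D.real g
  obtain ⟨f, hf⟩ := exists_int_sq_sub D.hyp D.mem D.real g
  have ha0 := ne_zero_of_pow ha
  have h1 := hk 1
  rw [pow_one, pow_one] at h1
  refine ⟨a, f, Nat.dvd_antisymm (orderOf_dvd_of_pow_eq_one ha) (orderOf_dvd_of_pow_eq_one ?_),
    ha0, h1, hf.symm, ?_, hk⟩
  · refine D.faithful _ ?_
    rw [hk, pow_orderOf_eq_one a, D.deg]; norm_num
  · rw [← hf, h1]
    field_simp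
    ring

theorem totient_le (g : G) : (orderOf g).totient ≤ 4 := by
  obtain ⟨a, f, ho, -, -, -, hp, -⟩ := D.spec g
  let P : Polynomial ℚ := Polynomial.X ^ 4 + Polynomial.X ^ 3 +
    Polynomial.C (2 - (f : ℚ)) * Polynomial.X ^ 2 + Polynomial.X + 1
  have hd : P.natDegree = 4 := by simp only [P]; compute_degree!
  refine hd ▸ cyclo_bound (orderOf_pos g) ho P (fun e => by rw [e] at hd; simp at hd) ?_
  simp only [P, map_add, map_mul, map_pow, Polynomial.aeval_X, Polynomial.aeval_C, map_one]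
  rw [eq_ratCast]
  push_cast
  exact hp

theorem not_ten (g : G) : orderOf g ≠ 10 := by
  intro hg
  obtain ⟨a, f, ho, ha0, -, -, hp, -⟩ := D.spec g
  have h10 : a ^ 10 = 1 := by rw [← hg, ← ho]; exact pow_orderOf_eq_one a
  have h5 : a ^ 5 = -1 := by
    have hne : a ^ 5 ≠ 1 := fun e => by
      have := Nat.le_of_dvd (by norm_num) (orderOf_dvd_of_pow_eq_one e)
      omega
    have : (a ^ 5 - 1) * (a ^ 5 + 1) = 0 := by linear_combination h10
    exact eq_neg_of_add_eq_zero_left ((mul_eq_zero.mp this).resolve_left (sub_ne_zero.mpr hne))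
  have ha1 : a + 1 ≠ 0 := fun e => by
    have h2 : a ^ 2 = 1 := by linear_combination (a - 1) * e
    have := Nat.le_of_dvd (by norm_num) (orderOf_dvd_of_pow_eq_one h2)
    omega
  have h4 : a ^ 4 - a ^ 3 + a ^ 2 - a + 1 = 0 :=
    (mul_eq_zero.mp (show (a + 1) * (a ^ 4 - a ^ 3 + a ^ 2 - a + 1) = 0 by
      linear_combination h5)).resolve_left ha1
  let P : Polynomial ℚ := Polynomial.C 2 * Polynomial.X ^ 2 +
    Polynomial.C (1 - (f : ℚ)) * Polynomial.X + Polynomial.C 2
  have hd : P.natDegree = 2 := by simp only [P]; compute_degree!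
  have h := cyclo_bound (orderOf_pos g) ho P (fun e => by rw [e] at hd; simp at hd) (by
    simp only [P, map_add, map_mul, map_pow, Polynomial.aeval_X, Polynomial.aeval_C]
    rw [eq_ratCast, eq_ratCast]
    push_cast
    exact mul_left_cancel₀ ha0 (by linear_combination hp - h4))
  rw [hd, hg] at h
  exact absurd h (by decide +kernel)

theorem prime_mem {p : ℕ} (hp : p.Prime) {g : G} (hg : p ∣ orderOf g) : p = 2 ∨ p = 3 ∨ p = 5 := by
  have h := (Nat.totient_dvd_of_dvd hg)
  rw [Nat.totient_prime hp] at h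
  have h4 := (Nat.le_of_dvd (Nat.totient_pos.mpr (orderOf_pos g)) h).trans (D.totient_le g)
  have := hp.two_le
  have : p ≤ 5 := by omega
  interval_cases p <;> first | (norm_num at hp; done) | simp

omit D in
theorem exists_order_of_dvd {g : G} {n : ℕ} (h : n ∣ orderOf g) : ∃ g' : G, orderOf g' = n :=
  ⟨g ^ (orderOf g / n), orderOf_pow_orderOf_div (orderOf_pos g).ne' h⟩

theorem not_totient {n : ℕ} (hn : 4 < n.totient) (g : G) : orderOf g ≠ n := fun e => by
  have := D.totient_le g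
  rw [e] at this
  omega

theorem order_five {g : G} (h : 5 ∣ orderOf g) : orderOf g = 5 := by
  obtain ⟨m, hm⟩ := h
  by_contra hne
  obtain ⟨q, hq, hqm⟩ := Nat.exists_prime_and_dvd (n := m) (fun e => hne (by rw [hm, e, mul_one]))
  obtain ⟨g', hg'⟩ := exists_order_of_dvd (g := g) (n := 5 * q) (hm ▸ Nat.mul_dvd_mul_left 5 hqm)
  rcases D.prime_mem hq (g := g) (hm ▸ dvd_mul_of_dvd_right hqm 5) with rfl | rfl | rfl
  · exact D.not_ten g' hg'
  · exact D.not_totient (by decide +kernel) g' hg'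
  · exact D.not_totient (by decide +kernel) g' hg'

/-- Elements of odd prime order `p` are self-centralizing when `p` is a maximal order. -/
theorem card_centralizer {p : ℕ} (hp : p.Prime) (hp2 : p ≠ 2)
    (hmax : ∀ g : G, p ∣ orderOf g → orderOf g = p) {x : G} (hx : orderOf x = p) :
    Nat.card (Subgroup.centralizer ({x} : Set G)) = p := by
  haveI : Fact p.Prime := ⟨hp⟩
  suffices he : Subgroup.centralizer ({x} : Set G) = Subgroup.zpowers x by
    rw [he, Nat.card_zpowers, hx]
  refine le_antisymm (fun y hy => ?_)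
    (Subgroup.zpowers_le.mpr (Subgroup.mem_centralizer_singleton_iff.mpr rfl))
  have hxy : Commute x y := (Subgroup.mem_centralizer_singleton_iff.mp hy).symm
  have hyp : y ^ p = 1 := by
    by_cases hd : p ∣ orderOf y
    · rw [← hmax y hd]; exact pow_orderOf_eq_one y
    · have hcop : (orderOf x).Coprime (orderOf y) := hx ▸ (Nat.Prime.coprime_iff_not_dvd hp).mpr hd
      have ho := hxy.orderOf_mul_eq_mul_orderOf_of_coprime hcop
      have h1 := hmax (x * y) (by rw [ho, hx]; exact dvd_mul_right _ _)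
      rw [ho, hx] at h1
      have : orderOf y = 1 := Nat.eq_of_mul_eq_mul_left hp.pos (by rw [h1, mul_one])
      rw [orderOf_eq_one_iff.mp this, one_pow]
  obtain ⟨μ, ν, hμ, hν, hμd, hνd, hij⟩ := exists_joint D.hyp D.deg hxy
  have hμp : ∀ l, μ l ^ p = 1 := fun l => hx ▸ hμ l
  have hνp : ∀ l, ν l ^ p = 1 := fun l => by
    obtain ⟨c, hc⟩ := orderOf_dvd_of_pow_eq_one hyp
    rw [hc, pow_mul, hν l, one_pow]
  have hfix : ∀ i : ℕ, ∃ l, μ l ^ i * ν l = 1 := by
    intro i
    refine one_mem_eigen D.real (g := x ^ i * y) (μ := fun l => μ l ^ i * ν l) hp.ne_zero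
      (fun l => by rw [mul_pow, hνp, mul_one, ← pow_mul, mul_comm, pow_mul, hμp, one_pow]) ?_ ?_
    · calc μ 0 ^ i * ν 0 * (μ 1 ^ i * ν 1) * (μ 2 ^ i * ν 2)
          = (μ 0 * μ 1 * μ 2) ^ i * (ν 0 * ν 1 * ν 2) := by ring
        _ = 1 := by rw [hμd, hνd, one_pow, one_mul]
    · simpa using hij i 1
  obtain ⟨l₀, hl₀⟩ := one_mem_eigen D.real (orderOf_pos x).ne' hμ hμd
    (by simpa using hij 1 0)
  have hne1 : ∀ l, l ≠ l₀ → μ l ≠ 1 := by
    intro l hl e
    have hx1 : x = 1 := D.faithful x (by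
      have hk := hij 1 0
      simp only [pow_zero, mul_one, pow_one] at hk
      rw [hk, D.deg, Fin.sum_univ_three]
      exact sum_eq_three hl e hl₀ hμd)
    rw [hx1, orderOf_one] at hx
    exact hp.one_lt.ne hx
  have hprim : ∀ l, l ≠ l₀ → IsPrimitiveRoot (μ l) p := fun l hl =>
    IsPrimitiveRoot.iff_orderOf.mpr (orderOf_eq_prime (hμp l) (hne1 l hl))
  have hν0 : ν l₀ = 1 := by
    by_contra hn
    choose l hl using hfix
    have hinj : Set.InjOn l (Finset.range p : Set ℕ) := by
      intro i hi j hj e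
      simp only [Finset.coe_range, Set.mem_Iio] at hi hj
      have hne : l i ≠ l₀ := fun e' => hn (by have := hl i; rwa [e', hl₀, one_pow, one_mul] at this)
      have h1 := hl i
      have h2 := hl j
      rw [← e] at h2
      exact (hprim _ hne).pow_inj hi hj (mul_right_cancel₀ (fun e0 => by rw [e0] at h1; simp at h1)
        (h1.trans h2.symm))
    have hmaps : ∀ i ∈ Finset.range p, l i ∈ Finset.univ.erase l₀ := fun i _ => by
      refine Finset.mem_erase.mpr ⟨fun e' => hn ?_, Finset.mem_univ _⟩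
      have := hl i
      rwa [e', hl₀, one_pow, one_mul] at this
    have := Finset.card_le_card_of_injOn l hmaps hinj
    rw [Finset.card_range, Finset.card_erase_of_mem (Finset.mem_univ _), Finset.card_univ,
      Fintype.card_fin] at this
    have := hp.two_le
    omega
  obtain ⟨l₁, hl₁⟩ := exists_ne l₀
  obtain ⟨j, -, hj⟩ := (hprim l₁ hl₁).eq_pow_of_pow_eq_one (ξ := (ν l₁)⁻¹)
    (by rw [inv_pow, hνp, inv_one])
  have hw : x ^ j * y = 1 := D.faithful _ (by
    have hk := hij j 1
    simp only [pow_one] at hk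
    have hν1 : ν l₁ ≠ 0 := fun e => by have := hνp l₁; rw [e, zero_pow hp.ne_zero] at this; simp at this
    have e1 : μ l₁ ^ j * ν l₁ = 1 := by rw [hj, inv_mul_cancel₀ hν1]
    have e0 : μ l₀ ^ j * ν l₀ = 1 := by rw [hl₀, one_pow, hν0, one_mul]
    have etot : μ 0 ^ j * ν 0 * (μ 1 ^ j * ν 1) * (μ 2 ^ j * ν 2) = 1 := by
      calc _ = (μ 0 * μ 1 * μ 2) ^ j * (ν 0 * ν 1 * ν 2) := by ring
        _ = 1 := by rw [hμd, hνd, one_pow, one_mul]
    rw [hk, D.deg, Fin.sum_univ_three]
    exact sum_eq_three (f := fun t => μ t ^ j * ν t) hl₁ e1 e0 etot)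
  rw [eq_inv_of_mul_eq_one_right hw]
  exact Subgroup.inv_mem _ (Subgroup.pow_mem _ (Subgroup.mem_zpowers x) j)

theorem u_sq : u * u = 1 := D.faithful _ (apply_u_sq D.hyp D.mem)

theorem orderOf_u : orderOf u = 2 := by
  haveI : Fact (Nat.Prime 2) := ⟨Nat.prime_two⟩
  exact orderOf_eq_prime (by rw [sq]; exact D.u_sq) D.hyp.1

theorem nontrivial : Nontrivial G := ⟨⟨u, 1, D.hyp.1⟩⟩

/-- A prime outside a pair of possible ones must divide the order. -/
theorem dvd_card {r : ℕ} (hr : r = 3 ∨ r = 5) : r ∣ Fintype.card G := by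
  by_contra hnd
  set q := if r = 3 then 5 else 3 with hq
  have hq' : q.Prime := by rw [hq]; split_ifs <;> norm_num
  have hn0 : Fintype.card G ≠ 0 := Fintype.card_ne_zero
  have hcard : Nat.card G = 2 ^ (Fintype.card G).factorization 2 *
      q ^ (Fintype.card G).factorization q := by
    rw [Nat.card_eq_fintype_card]
    refine Nat.eq_of_factorization_eq hn0
      (mul_ne_zero (pow_ne_zero _ two_ne_zero) (pow_ne_zero _ hq'.ne_zero)) fun p => ?_
    rw [Nat.factorization_mul (pow_ne_zero _ two_ne_zero) (pow_ne_zero _ hq'.ne_zero),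
      Nat.prime_two.factorization_pow, hq'.factorization_pow, Finsupp.add_apply,
      Finsupp.single_apply, Finsupp.single_apply]
    have hq2 : q ≠ 2 := by rw [hq]; split_ifs <;> norm_num
    by_cases hp2 : p = 2
    · subst hp2; simp [hq2]
    by_cases hpq : p = q
    · rw [if_neg (Ne.symm hp2), if_pos hpq.symm, zero_add, hpq]
    rw [if_neg (Ne.symm hp2), if_neg (Ne.symm hpq), add_zero]
    by_contra hne
    have hm : p ∈ (Fintype.card G).primeFactors := by
      rw [← Nat.support_factorization]; exact Finsupp.mem_support_iff.mpr hne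
    have hp := Nat.prime_of_mem_primeFactors hm
    have hd := Nat.dvd_of_mem_primeFactors hm
    haveI : Fact p.Prime := ⟨hp⟩
    obtain ⟨g, hg⟩ := exists_prime_orderOf_dvd_card p hd
    rcases D.prime_mem hp (g := g) (hg ▸ dvd_rfl) with h | h | h
    · exact hp2 h
    · rcases hr with rfl | rfl
      · exact hnd (h ▸ hd)
      · exact hpq (by rw [h, hq]; norm_num)
    · rcases hr with rfl | rfl
      · exact hpq (by rw [h, hq]; norm_num)
      · exact hnd (h ▸ hd)
  haveI := Cfsg.Agent.S0144.result 2 q _ _ Nat.prime_two hq' hcard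
  haveI := D.nontrivial
  exact (Group.IsSolvable.commutator_lt_top_of_nontrivial G).ne (perfect D.hyp)

/-- An element of order five. -/
theorem exists_five : ∃ x : G, orderOf x = 5 := by
  haveI : Fact (Nat.Prime 5) := ⟨Nat.prime_five⟩
  exact exists_prime_orderOf_dvd_card 5 (D.dvd_card (Or.inr rfl))

/-- The values at an element of order five. -/
theorem five_values {x : G} (hx : orderOf x = 5) : ∃ σ : ℂ ≃+* ℂ,
    Rationality.galIrr σ χ ≠ χ ∧
    ∀ φ ∈ three u, (φ : G → ℂ) x ^ 2 - (φ : G → ℂ) x = 1 ∧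
      σ ((φ : G → ℂ) x) = 1 - (φ : G → ℂ) x := by
  obtain ⟨a, f, ho, ha0, hv, hf, -, hk⟩ := D.spec x
  rw [hx] at ho
  have h5 : a ^ 5 = 1 := ho ▸ pow_orderOf_eq_one a
  have hne : a - 1 ≠ 0 := fun e => by
    rw [sub_eq_zero.mp e, orderOf_one] at ho
    norm_num at ho
  have h4 : a ^ 4 + a ^ 3 + a ^ 2 + a + 1 = 0 :=
    (mul_eq_zero.mp (show (a - 1) * (a ^ 4 + a ^ 3 + a ^ 2 + a + 1) = 0 by
      linear_combination h5)).resolve_left hne
  have hinv : a⁻¹ = a ^ 4 := inv_eq_of_mul_eq_one_right (by linear_combination h5)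
  set v := (χ : G → ℂ) x with hvdef
  have hroot : v ^ 2 - v = 1 := by
    rw [hv, hinv]
    linear_combination h4 + (2 + a ^ 3) * h5
  obtain ⟨σ, hσr, hσ⟩ := exists_galois_apply x (k := 2) (by rw [hx]; norm_num)
  have hσv : σ v = 1 - v := by
    rw [hσ, hk, hv, hinv]
    rw [show (a ^ 2)⁻¹ = a ^ 3 from inv_eq_of_mul_eq_one_right (by linear_combination h5)]
    linear_combination h4
  refine ⟨σ, fun e => ?_, fun φ hφ => ?_⟩
  · have h1 := congrFun (congrArg Subtype.val e) x
    rw [Rationality.galIrr_apply, ← hvdef, hσv] at h1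
    have h2 : v = 1 / 2 := by linear_combination (-1 / 2 : ℂ) * h1
    rw [h2] at hroot
    norm_num at hroot
  · have h1 : (φ : G → ℂ) x ^ 2 - (φ : G → ℂ) x = 1 := by
      rw [(pair D.hyp D.mem hφ).2.1 D.real x]; exact hroot
    refine ⟨h1, ?_⟩
    have : ((φ : G → ℂ) x - v) * ((φ : G → ℂ) x - (1 - v)) = 0 := by
      linear_combination h1 - hroot
    rcases mul_eq_zero.mp this with h | h
    · rw [sub_eq_zero.mp h, hσv]
    · rw [sub_eq_zero.mp h, map_sub, map_one, hσv]

/-- There are exactly two members of degree three. -/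
theorem card_three : (three u).card = 2 := by
  obtain ⟨x, hx⟩ := D.exists_five
  obtain ⟨σ, hne, hval⟩ := D.five_values hx
  have hge : 2 ≤ (three u).card := by
    rw [← Finset.card_pair hne]
    refine Finset.card_le_card fun φ hφ => ?_
    simp only [Finset.mem_insert, Finset.mem_singleton] at hφ
    rcases hφ with rfl | rfl
    · exact galIrr_mem σ D.mem
    · exact D.mem
  have himg : (three u).image (Rationality.galIrr σ) = three u :=
    Finset.eq_of_subset_of_card_le (fun φ hφ => by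
      obtain ⟨ψ, hψ, rfl⟩ := Finset.mem_image.mp hφ
      exact galIrr_mem σ hψ)
      (by rw [Finset.card_image_of_injective _ (Rationality.galIrr_injective σ)])
  have hS : (∑ φ ∈ three u, (φ : G → ℂ) x) = ∑ φ ∈ three u, σ ((φ : G → ℂ) x) := by
    conv_lhs => rw [← himg]
    rw [Finset.sum_image fun a _ b _ e => Rationality.galIrr_injective σ e]
    rfl
  have hS2 : 2 * (∑ φ ∈ three u, (φ : G → ℂ) x) = ((three u).card : ℂ) := by
    rw [two_mul]
    nth_rewrite 2 [hS]
    rw [← Finset.sum_add_distrib, Finset.sum_congr rfl fun φ hφ => by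
      rw [(hval φ hφ).2, add_sub_cancel]]
    simp
  have hSq : ∑ φ ∈ three u, ((‖(φ : G → ℂ) x‖ ^ 2 : ℝ) : ℂ) = 3 * ((three u).card : ℂ) / 2 := by
    have hsq : ∀ φ ∈ three u, ((‖(φ : G → ℂ) x‖ ^ 2 : ℝ) : ℂ) = (φ : G → ℂ) x + 1 := by
      intro φ hφ
      rw [Complex.ofReal_pow, ← Complex.mul_conj', (pair D.hyp D.mem hφ).1.mp D.real x]
      linear_combination (hval φ hφ).1
    rw [Finset.sum_congr rfl hsq, Finset.sum_add_distrib, Finset.sum_const, nsmul_eq_mul, mul_one]
    linear_combination (1 / 2 : ℂ) * hS2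
  rw [← Complex.ofReal_sum] at hSq
  have hSr : ∑ φ ∈ three u, ‖(φ : G → ℂ) x‖ ^ 2 = 3 * ((three u).card : ℝ) / 2 := by
    have h := congrArg Complex.re hSq
    rw [Complex.ofReal_re] at h
    rw [h]
    simp
  have hC := D.card_centralizer Nat.prime_five (by norm_num) (fun g hg => D.order_five hg) hx
  have hone : oneChar G ∉ three u := fun hm => ne_one_of_mem hm rfl
  have hle : ∑ φ ∈ insert (oneChar G) (three u), ‖(φ : G → ℂ) x‖ ^ 2 ≤ (5 : ℝ) := by
    rw [show (5 : ℝ) = ((5 : ℕ) : ℝ) by norm_num, ← hC, ← sum_norm_sq_col x]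
    exact Finset.sum_le_sum_of_subset_of_nonneg (Finset.subset_univ _) fun _ _ _ => sq_nonneg _
  rw [Finset.sum_insert hone, hSr] at hle
  simp only [coe_oneChar, norm_one, one_pow] at hle
  have h3 : ((three u).card : ℝ) < 3 := by linarith
  have : (three u).card < 3 := by exact_mod_cast h3
  omega

theorem exists_other : ∃ σ : ℂ ≃+* ℂ, three u = {χ, Rationality.galIrr σ χ} ∧
    Rationality.galIrr σ χ ≠ χ := by
  obtain ⟨x, hx⟩ := D.exists_five
  obtain ⟨σ, hne, -⟩ := D.five_values hx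
  refine ⟨σ, (Finset.eq_of_subset_of_card_le (fun φ hφ => ?_) ?_).symm, hne⟩
  · simp only [Finset.mem_insert, Finset.mem_singleton] at hφ
    rcases hφ with rfl | rfl
    · exact D.mem
    · exact galIrr_mem σ D.mem
  · rw [D.card_three, Finset.card_pair (Ne.symm hne)]

/-- An element with an integral value that is not conjugate to `u`. -/
theorem int_value {g : G} {m : ℤ} (hm : (χ : G → ℂ) g = m) (hg : ¬ IsConj g u) :
    (m : ℂ) ^ 2 - 3 * m = 0 := by
  obtain ⟨σ, h3, hne⟩ := D.exists_other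
  have h := (rigid D.hyp D.mem D.real D.card_three).2 g hg
  rw [h3, Finset.sum_pair (Ne.symm hne), Rationality.galIrr_apply, hm, map_intCast] at h
  linear_combination h

theorem no_four (g : G) : orderOf g ≠ 4 := by
  intro hg
  obtain ⟨a, f, ho, ha0, hv, -, -, -⟩ := D.spec g
  rw [hg] at ho
  have h4 : a ^ 4 = 1 := ho ▸ pow_orderOf_eq_one a
  have hne : a ^ 2 ≠ 1 := fun e => by
    have := Nat.le_of_dvd (by norm_num) (orderOf_dvd_of_pow_eq_one e)
    omega
  have h2 : a ^ 2 + 1 = 0 :=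
    (mul_eq_zero.mp (show (a ^ 2 - 1) * (a ^ 2 + 1) = 0 by
      linear_combination h4)).resolve_left (sub_ne_zero.mpr hne)
  have hinv : a⁻¹ = -a := inv_eq_of_mul_eq_one_right (by linear_combination -h2)
  have h := D.int_value (g := g) (m := 1) (by rw [hv, hinv]; push_cast; ring) fun hc => by
    have : orderOf g = orderOf u := orderOf_eq_of_isConj hc
    rw [hg, D.orderOf_u] at this
    norm_num at this
  norm_num at h

theorem no_six (g : G) : orderOf g ≠ 6 := by
  intro hg
  obtain ⟨a, f, ho, ha0, hv, -, -, -⟩ := D.spec g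
  rw [hg] at ho
  have h6 : a ^ 6 = 1 := ho ▸ pow_orderOf_eq_one a
  have hn3 : a ^ 3 ≠ 1 := fun e => by
    have := Nat.le_of_dvd (by norm_num) (orderOf_dvd_of_pow_eq_one e)
    omega
  have h3 : a ^ 3 + 1 = 0 :=
    (mul_eq_zero.mp (show (a ^ 3 - 1) * (a ^ 3 + 1) = 0 by
      linear_combination h6)).resolve_left (sub_ne_zero.mpr hn3)
  have hn1 : a + 1 ≠ 0 := fun e => by
    have h2 : a ^ 2 = 1 := by linear_combination (a - 1) * e
    have := Nat.le_of_dvd (by norm_num) (orderOf_dvd_of_pow_eq_one h2)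
    omega
  have hq : a ^ 2 - a + 1 = 0 :=
    (mul_eq_zero.mp (show (a + 1) * (a ^ 2 - a + 1) = 0 by linear_combination h3)).resolve_left hn1
  have hinv : a⁻¹ = 1 - a := inv_eq_of_mul_eq_one_right (by linear_combination -hq)
  have h := D.int_value (g := g) (m := 2) (by rw [hv, hinv]; push_cast; ring) fun hc => by
    have : orderOf g = orderOf u := orderOf_eq_of_isConj hc
    rw [hg, D.orderOf_u] at this
    norm_num at this
  norm_num at h

/-- Involutions are conjugate to `u`. -/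
theorem isConj_u {g : G} (hg : orderOf g = 2) : IsConj g u := by
  obtain ⟨a, f, ho, ha0, hv, -, -, -⟩ := D.spec g
  rw [hg] at ho
  have h2 : a ^ 2 = 1 := ho ▸ pow_orderOf_eq_one a
  have hne : a - 1 ≠ 0 := fun e => by
    rw [sub_eq_zero.mp e, orderOf_one] at ho
    norm_num at ho
  have ha : a = -1 := eq_neg_of_add_eq_zero_left
    ((mul_eq_zero.mp (show (a - 1) * (a + 1) = 0 by linear_combination h2)).resolve_left hne)
  by_contra hc
  have h := D.int_value (g := g) (m := -1) (by rw [hv, ha]; norm_num) hc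
  norm_num at h

theorem order_three {g : G} (h : 3 ∣ orderOf g) : orderOf g = 3 := by
  obtain ⟨m, hm⟩ := h
  by_contra hne
  obtain ⟨q, hq, hqm⟩ := Nat.exists_prime_and_dvd (n := m) (fun e => hne (by rw [hm, e, mul_one]))
  obtain ⟨g', hg'⟩ := exists_order_of_dvd (g := g) (n := 3 * q) (hm ▸ Nat.mul_dvd_mul_left 3 hqm)
  rcases D.prime_mem hq (g := g) (hm ▸ dvd_mul_of_dvd_right hqm 3) with rfl | rfl | rfl
  · exact D.no_six g' hg'
  · exact D.not_totient (by decide +kernel) g' hg'
  · exact D.not_totient (by decide +kernel) g' hg'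

/-- The Sylow subgroups are small. -/
theorem factorization_le {p c : ℕ} (hp : p.Prime) (hc : ∀ x : G, orderOf x = p →
    Nat.card (Subgroup.centralizer ({x} : Set G)) = p ^ c) :
    (Nat.card G).factorization p ≤ c := by
  haveI : Fact p.Prime := ⟨hp⟩
  obtain ⟨P⟩ : Nonempty (Sylow p G) := inferInstance
  rcases Nat.eq_zero_or_pos ((Nat.card G).factorization p) with h0 | hpos
  · omega
  have hP1 : (P : Subgroup G) ≠ ⊥ := fun e => by
    have := P.card_eq_multiplicity
    rw [e, Subgroup.card_bot] at this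
    exact (Nat.one_lt_pow hpos.ne' hp.one_lt).ne this
  haveI := (Subgroup.nontrivial_iff_ne_bot _).mpr hP1
  haveI := P.isPGroup'.center_nontrivial
  obtain ⟨z, hz⟩ := exists_ne (1 : Subgroup.center (P : Subgroup G))
  obtain ⟨k, hk⟩ := P.isPGroup' (z : (P : Subgroup G))
  have hpd : p ∣ orderOf z := by
    obtain ⟨j, -, hj⟩ := (Nat.dvd_prime_pow hp).mp
      (orderOf_dvd_of_pow_eq_one (show z ^ p ^ k = 1 from Subtype.ext hk))
    rcases Nat.eq_zero_or_pos j with rfl | hjp
    · rw [pow_zero, orderOf_eq_one_iff] at hj; exact absurd hj hz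
    · rw [hj]; exact dvd_pow_self p hjp.ne'
  set w := z ^ (orderOf z / p) with hwdef
  have hw : orderOf w = p := orderOf_pow_orderOf_div (orderOf_pos z).ne' hpd
  have hwG : orderOf (((w : (P : Subgroup G)) : G)) = p := by
    rw [Subgroup.orderOf_coe, Subgroup.orderOf_coe, hw]
  have hle : (P : Subgroup G) ≤ Subgroup.centralizer ({((w : (P : Subgroup G)) : G)} : Set G) := by
    intro q hq
    rw [Subgroup.mem_centralizer_singleton_iff]
    exact congrArg Subtype.val (Subgroup.mem_center_iff.mp w.2 ⟨q, hq⟩)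
  have := Subgroup.card_dvd_of_le hle
  rw [P.card_eq_multiplicity, hc _ hwG] at this
  exact (Nat.pow_dvd_pow_iff_le_right hp.one_lt).mp this

theorem card_eq : Nat.card G = 60 := by
  have hC2 : ∀ x : G, orderOf x = 2 →
      Nat.card (Subgroup.centralizer ({x} : Set G)) = 2 ^ 2 := fun x hx => by
    obtain ⟨c, hcx⟩ := isConj_iff.mp (D.isConj_u hx).symm
    rw [← hcx, show (2 : ℕ) ^ 2 = 4 by norm_num, ← (rigid D.hyp D.mem D.real D.card_three).1]
    refine Nat.card_congr (((MulAut.conj c).subgroupMap _).trans (MulEquiv.subgroupCongr ?_)).symm.toEquiv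
    ext y
    show y ∈ (Subgroup.centralizer {u}).map ((MulAut.conj c).toMonoidHom) ↔ _
    rw [Subgroup.mem_map_equiv, Subgroup.mem_centralizer_singleton_iff,
      Subgroup.mem_centralizer_singleton_iff, MulAut.conj_symm_apply]
    constructor <;> intro h
    · calc y * (c * u * c⁻¹) = c * ((c⁻¹ * y * c) * u) * c⁻¹ := by group
        _ = _ := by rw [h]; group
    · calc c⁻¹ * y * c * u = c⁻¹ * (y * (c * u * c⁻¹)) * c := by group
        _ = _ := by rw [h]; group
  have h2 : (Nat.card G).factorization 2 ≤ 2 := D.factorization_le Nat.prime_two hC2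
  have h3 : (Nat.card G).factorization 3 ≤ 1 := D.factorization_le Nat.prime_three fun x hx => by
    rw [pow_one, D.card_centralizer Nat.prime_three (by norm_num) (fun g hg => D.order_three hg) hx]
  have h5 : (Nat.card G).factorization 5 ≤ 1 := D.factorization_le Nat.prime_five fun x hx => by
    rw [pow_one, D.card_centralizer Nat.prime_five (by norm_num) (fun g hg => D.order_five hg) hx]
  have h4 : 4 ∣ Nat.card G :=
    (rigid D.hyp D.mem D.real D.card_three).1 ▸ Subgroup.card_subgroup_dvd_card _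
  have hn0 : Nat.card G ≠ 0 := Nat.card_pos.ne'
  have hd3 : 3 ∣ Nat.card G := by rw [Nat.card_eq_fintype_card]; exact D.dvd_card (Or.inl rfl)
  have hd5 : 5 ∣ Nat.card G := by rw [Nat.card_eq_fintype_card]; exact D.dvd_card (Or.inr rfl)
  refine Nat.dvd_antisymm ((Nat.factorization_le_iff_dvd hn0 (by norm_num)).mp fun p => ?_) ?_
  · have h60 : (60 : ℕ).factorization = Finsupp.single 2 2 + Finsupp.single 3 1 + Finsupp.single 5 1 := by
      rw [show (60 : ℕ) = 2 ^ 2 * 3 ^ 1 * 5 ^ 1 by norm_num,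
        Nat.factorization_mul (by norm_num) (by norm_num),
        Nat.factorization_mul (by norm_num) (by norm_num), Nat.prime_two.factorization_pow,
        Nat.prime_three.factorization_pow, Nat.prime_five.factorization_pow]
    rw [h60]
    by_cases hpz : (Nat.card G).factorization p = 0
    · rw [hpz]; exact Nat.zero_le _
    have hm : p ∈ (Nat.card G).primeFactors := by
      rw [← Nat.support_factorization]; exact Finsupp.mem_support_iff.mpr hpz
    haveI : Fact p.Prime := ⟨Nat.prime_of_mem_primeFactors hm⟩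
    obtain ⟨g, hg⟩ := exists_prime_orderOf_dvd_card p
      (Nat.card_eq_fintype_card (α := G) ▸ Nat.dvd_of_mem_primeFactors hm)
    rcases D.prime_mem (Nat.prime_of_mem_primeFactors hm) (g := g) (hg ▸ dvd_rfl) with
      rfl | rfl | rfl <;>
      simp [Finsupp.single_apply] <;> rw [← Nat.card_eq_fintype_card] <;> omega
  · have := Nat.Coprime.mul_dvd_of_dvd_of_dvd (by norm_num)
      (Nat.Coprime.mul_dvd_of_dvd_of_dvd (by norm_num) h4 hd3) hd5
    simpa using this

theorem isSimple : IsSimpleGroup G := by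
  haveI := D.nontrivial
  refine ⟨fun N hN => ?_⟩
  by_contra hno
  simp only [not_or] at hno
  have hmul := Subgroup.card_eq_card_quotient_mul_card_subgroup N
  rw [D.card_eq] at hmul
  have hN1 : Nat.card N ≠ 1 := fun e => hno.1 (Subgroup.card_eq_one.mp e)
  have hQ1 : Nat.card (G ⧸ N) ≠ 1 := fun e => hno.2 (Subgroup.index_eq_one.mp e)
  have hNpos : 0 < Nat.card N := Nat.card_pos
  have hQpos : 0 < Nat.card (G ⧸ N) := Nat.card_pos
  have hNlt : Nat.card N < 60 := by
    have h2 : 2 ≤ Nat.card (G ⧸ N) := by omega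
    nlinarith [Nat.mul_le_mul_right (Nat.card N) h2]
  have hQlt : Nat.card (G ⧸ N) < 60 := by
    have h2 : 2 ≤ Nat.card N := by omega
    nlinarith [Nat.mul_le_mul_left (Nat.card (G ⧸ N)) h2]
  haveI := Recognition.Zassenhaus.small_solvable (G := N)
    ((Dvd.intro_left _ hmul.symm).trans (by norm_num)) hNlt.ne (by omega)
  haveI := Recognition.Zassenhaus.small_solvable (G := G ⧸ N)
    ((Dvd.intro _ hmul.symm).trans (by norm_num)) hQlt.ne (by omega)
  haveI : Group.IsSolvable G := solvable_of_ker_le_range N.subtype (QuotientGroup.mk' N)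
    (by rw [QuotientGroup.ker_mk', Subgroup.range_subtype])
  exact (Group.IsSolvable.commutator_lt_top_of_nontrivial G).ne (perfect D.hyp)

theorem equiv_a5 : Nonempty (G ≃* alternatingGroup (Fin 5)) :=
  haveI := D.isSimple
  Cfsg.Agent.S0494.result D.card_eq

end RE

end CfsgLib.DegreeTools.FeitFour
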