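import Cfsg.Agent.Lib.DegreeTools.FeitFour.Tools
import Cfsg.Agent.S0144

/-!
# A faithful member of degree three is real

Otherwise the absolute squares of its values are rational, so the group has only the primes
`2`, `3`, `7`, an element of order seven is self-centralizing modulo the centre, and counting
the column of such an element bounds the number of members too much.
-/

set_option autoImplicit false
set_option linter.style.haveILetI false

namespace CfsgLib.DegreeTools.FeitFour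

open CfsgLib CfsgLib.Char CfsgLib.DegreeTools
open scoped Classical ComplexConjugate

variable {G : Type*} [Group G] [Fintype G]

/-- The setting of a non-real faithful member. -/
structure NR (u : G) (χ : Cfsg.IrrCharacter G) : Prop where
  hyp : Hyp u
  mem : χ ∈ three u
  nreal : ¬ RealValued χ
  faithful : ∀ g : G, (χ : G → ℂ) g = (χ : G → ℂ) 1 → g = 1

namespace NR

variable {u : G} {χ : Cfsg.IrrCharacter G} (D : NR u χ)
include D

theorem deg : (χ : G → ℂ) 1 = 3 := (mem_three.mp D.mem).1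

/-- Values at coprime powers have the same absolute square. -/
theorem sq_pow (g : G) {k : ℕ} (hk : k.Coprime (orderOf g)) :
    (χ : G → ℂ) (g ^ k) * conj ((χ : G → ℂ) (g ^ k)) = (χ : G → ℂ) g * conj ((χ : G → ℂ) g) := by
  obtain ⟨σ, -, hσ⟩ := exists_galois_apply g hk
  obtain ⟨n, hn⟩ := exists_int_normSq D.hyp D.mem D.nreal g
  have h := congrArg σ hn
  rw [map_mul, map_conj_apply, Rationality.galIrr_apply, hσ, map_intCast] at h
  rw [h, hn]

/-- The absolute square as a sum over pairs of eigenvalues. -/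
theorem sq_eq_sum {g : G} {μ : Fin 3 → ℂ} (hμ : ∀ i, μ i ^ orderOf g = 1)
    (hk : ∀ k : ℕ, (χ : G → ℂ) (g ^ k) = ∑ i, μ i ^ k) (k : ℕ) :
    (χ : G → ℂ) (g ^ k) * conj ((χ : G → ℂ) (g ^ k)) =
      ∑ p : Fin 3 × Fin 3, (μ p.1 / μ p.2) ^ k := by
  rw [hk k, map_sum, Finset.sum_mul_sum, Fintype.sum_prod_type]
  refine Finset.sum_congr rfl fun i _ => Finset.sum_congr rfl fun j _ => ?_
  rw [map_pow, conj_root (orderOf_pos g).ne' (hμ j), div_pow, inv_pow, div_eq_mul_inv]

/-- Fourier coefficients of the absolute square on a cyclic group of prime order. -/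
theorem prime_fourier {p : ℕ} (hp : p.Prime) {g : G} (hg : orderOf g = p) {μ : Fin 3 → ℂ}
    (hμ : ∀ i, μ i ^ orderOf g = 1) (hk : ∀ k : ℕ, (χ : G → ℂ) (g ^ k) = ∑ i, μ i ^ k) :
    ∃ f : ℂ, (χ : G → ℂ) g * conj ((χ : G → ℂ) g) = f ∧ ∀ z : ℂ, z ^ p = 1 →
      (p : ℂ) * ((Finset.univ.filter fun q : Fin 3 × Fin 3 => μ q.1 / μ q.2 * z = 1).card : ℂ) =
        9 - f + if z = 1 then (p : ℂ) * f else 0 := by
  refine ⟨_, rfl, fun z hz => ?_⟩
  set f := (χ : G → ℂ) g * conj ((χ : G → ℂ) g) with hf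
  have hr : ∀ q : Fin 3 × Fin 3, (μ q.1 / μ q.2) ^ p = 1 := fun q => by
    rw [← hg, div_pow, hμ, hμ, div_one]
  have hsplit : ∀ k ∈ Finset.range p, (∑ q : Fin 3 × Fin 3, 1 * (μ q.1 / μ q.2) ^ k) * z ^ k =
      (if k = 0 then 9 - f else 0) + f * z ^ k := by
    intro k hkp
    simp only [one_mul]
    rw [← D.sq_eq_sum hμ hk k]
    by_cases h0 : k = 0
    · subst h0
      rw [pow_zero, pow_zero, if_pos rfl, D.deg, Complex.conj_ofNat]
      ring
    · rw [if_neg h0, zero_add, D.sq_pow g]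
      rw [hg]
      exact ((Nat.Prime.coprime_iff_not_dvd hp).mpr
        (Nat.not_dvd_of_pos_of_lt (Nat.pos_of_ne_zero h0) (Finset.mem_range.mp hkp))).symm
  have h := fourier (fun _ : Fin 3 × Fin 3 => (1 : ℂ)) (fun q => μ q.1 / μ q.2) hr hz
  rw [Finset.sum_congr rfl hsplit, Finset.sum_add_distrib, Finset.sum_ite_eq',
    if_pos (Finset.mem_range.mpr hp.pos), ← Finset.mul_sum, geom_root hz, Finset.sum_const,
    nsmul_eq_mul, mul_one] at h
  rw [← h]
  split_ifs <;> ring

/-- The common multiplicity of the non-trivial ratios. -/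
theorem prime_counts {p : ℕ} (hp : p.Prime) (hp3 : p ≠ 3) {g : G} (hg : orderOf g = p)
    {μ : Fin 3 → ℂ} (hμ : ∀ i, μ i ^ orderOf g = 1) (hdet : μ 0 * μ 1 * μ 2 = 1)
    (hk : ∀ k : ℕ, (χ : G → ℂ) (g ^ k) = ∑ i, μ i ^ k) :
    ∃ N : ℕ, 1 ≤ N ∧ (p - 1) * N ≤ 6 ∧
      (χ : G → ℂ) g * conj ((χ : G → ℂ) g) = 9 - (p : ℂ) * N ∧
      (Finset.univ.filter fun q : Fin 3 × Fin 3 => μ q.1 / μ q.2 * 1 = 1).card + (p - 1) * N = 9 ∧
      ∀ z : ℂ, z ^ p = 1 → z ≠ 1 →
        (Finset.univ.filter fun q : Fin 3 × Fin 3 => μ q.1 / μ q.2 * z = 1).card = N := by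
  obtain ⟨f, hf, hcoef⟩ := D.prime_fourier hp hg hμ hk
  have hω := Complex.isPrimitiveRoot_exp p hp.ne_zero
  set ω := Complex.exp (2 * Real.pi * Complex.I / p)
  set N := (Finset.univ.filter fun q : Fin 3 × Fin 3 => μ q.1 / μ q.2 * ω = 1).card
  set N0 := (Finset.univ.filter fun q : Fin 3 × Fin 3 => μ q.1 / μ q.2 * 1 = 1).card with hN0
  have hp0 : (p : ℂ) ≠ 0 := Nat.cast_ne_zero.mpr hp.ne_zero
  have hN := hcoef ω hω.pow_eq_one
  rw [if_neg (hω.ne_one hp.one_lt), add_zero] at hN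
  have h0 := hcoef 1 (one_pow p)
  rw [if_pos rfl] at h0
  have hsum : N0 + (p - 1) * N = 9 := by
    have hc : (p : ℂ) * ((N0 : ℂ) + ((p - 1 : ℕ) : ℂ) * (N : ℂ)) = (p : ℂ) * 9 := by
      rw [Nat.cast_sub hp.one_lt.le]
      push_cast
      linear_combination h0 + ((p : ℂ) - 1) * hN
    exact_mod_cast mul_left_cancel₀ hp0 hc
  have h3 : 3 ≤ N0 := by
    refine le_trans (by decide : 3 ≤ ((Finset.univ : Finset (Fin 3)).image fun i => (i, i)).card)
      (Finset.card_le_card fun q hq => ?_)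
    obtain ⟨i, -, rfl⟩ := Finset.mem_image.mp hq
    have : μ i ≠ 0 := fun e => by
      have := hμ i
      rw [e, zero_pow (orderOf_pos g).ne'] at this
      exact zero_ne_one this
    simp [this]
  refine ⟨N, ?_, by omega, by rw [hf]; linear_combination hN, hsum, fun z hz hz1 => ?_⟩
  · by_contra hlt
    have hall : N0 = Fintype.card (Fin 3 × Fin 3) := by
      have : N = 0 := by omega
      simp [this] at hsum ⊢
      exact hsum
    have heq : ∀ i j, μ i = μ j := fun i j => by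
      have hu := Finset.eq_univ_of_card _ (hN0 ▸ hall)
      have := Finset.ext_iff.mp hu (i, j)
      simp only [Finset.mem_univ, iff_true, Finset.mem_filter, true_and, mul_one] at this
      exact (div_eq_one_iff_eq (fun e => by rw [e, div_zero] at this; exact zero_ne_one this)).mp this
    have hcube : μ 0 ^ 3 = 1 := by
      rw [← hdet, ← heq 0 1, ← heq 0 2]; ring
    have hμp : μ 0 ^ p = 1 := hg ▸ hμ 0
    have h1 : μ 0 = 1 := orderOf_eq_one_iff.mp <| Nat.dvd_one.mp <| by
      have hd := Nat.dvd_gcd (orderOf_dvd_of_pow_eq_one hμp) (orderOf_dvd_of_pow_eq_one hcube)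
      rwa [(Nat.coprime_primes hp Nat.prime_three).mpr hp3] at hd
    have : g = 1 := D.faithful g (by
      have := hk 1
      rw [pow_one] at this
      rw [this, D.deg, Fin.sum_univ_three, ← heq 0 1, ← heq 0 2, h1]
      norm_num)
    exact hp.one_lt.ne' (by rw [← hg, this, orderOf_one])
  · have hz' := hcoef z hz
    rw [if_neg hz1, add_zero] at hz'
    exact_mod_cast mul_left_cancel₀ hp0 (hz'.trans hN.symm)

/-- The prime divisors of the group order. -/
theorem prime_mem {p : ℕ} (hp : p.Prime) (hdvd : p ∣ Fintype.card G) : p = 2 ∨ p = 3 ∨ p = 7 := by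
  haveI : Fact p.Prime := ⟨hp⟩
  obtain ⟨g, hg⟩ := exists_prime_orderOf_dvd_card p hdvd
  by_contra hno
  simp only [not_or] at hno
  obtain ⟨μ, ν, hμ, -, hμd, -, hij⟩ := exists_joint D.hyp D.deg (Commute.one_right g)
  have hk : ∀ k : ℕ, (χ : G → ℂ) (g ^ k) = ∑ i, μ i ^ k := fun k => by simpa using hij k 0
  obtain ⟨N, hN1, hN6, -, hsum, hcount⟩ := D.prime_counts hp hno.2.1 hg hμ hμd hk
  have h5 : p = 5 := by
    have hle : p - 1 ≤ 6 := (Nat.le_mul_of_pos_right _ hN1).trans hN6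
    have := hp.two_le
    have : p ≤ 7 := by omega
    interval_cases p <;> first | (norm_num at hp; done) | omega
  subst h5
  have hN : N = 1 := by omega
  subst hN
  have hne : ∀ i, μ i ≠ 0 := fun i e => by
    have := hμ i
    rw [e, zero_pow (orderOf_pos g).ne'] at this
    exact zero_ne_one this
  have hroot : ∀ i, μ i ^ 5 = 1 := fun i => hg ▸ hμ i
  -- exactly one coincidence among the three
  have htwo : ∀ a b c : Fin 3, a ≠ b → μ a = μ b → μ a ≠ μ c → False := by
    intro a b c hab he hne'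
    have h1 := hcount (μ c / μ a) (by rw [div_pow, hroot, hroot, div_one])
      (fun e => hne' ((div_eq_one_iff_eq (hne a)).mp e).symm)
    have hsub : ({(a, c), (b, c)} : Finset (Fin 3 × Fin 3)) ⊆
        Finset.univ.filter fun q : Fin 3 × Fin 3 => μ q.1 / μ q.2 * (μ c / μ a) = 1 := by
      intro q hq
      have := hne a
      have := hne c
      simp only [Finset.mem_insert, Finset.mem_singleton] at hq
      rcases hq with rfl | rfl
      · simp only [Finset.mem_filter, Finset.mem_univ, true_and]; field_simp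
      · simp only [Finset.mem_filter, Finset.mem_univ, true_and, ← he]; field_simp
    have h2 := Finset.card_le_card hsub
    rw [h1, Finset.card_pair (by simp [hab])] at h2
    omega
  by_cases h01 : μ 0 = μ 1
  · by_cases h02 : μ 0 = μ 2
    · have hle : (Finset.univ : Finset (Fin 3 × Fin 3)) ⊆
          Finset.univ.filter fun q : Fin 3 × Fin 3 => μ q.1 / μ q.2 * 1 = 1 := by
        intro q _
        have hq : ∀ i, μ i = μ 0 := fun i => by fin_cases i <;> simp [← h01, ← h02]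
        simp [hq q.1, hq q.2, hne 0]
      have := Finset.card_le_card hle
      simp at this hsum
      omega
    · exact htwo 0 1 2 (by decide) h01 h02
  · by_cases h02 : μ 0 = μ 2
    · exact htwo 0 2 1 (by decide) h02 h01
    · by_cases h12 : μ 1 = μ 2
      · exact htwo 1 2 0 (by decide) h12 (Ne.symm h01)
      · have hle : (Finset.univ.filter fun q : Fin 3 × Fin 3 => μ q.1 / μ q.2 * 1 = 1) ⊆
            (Finset.univ : Finset (Fin 3)).image fun i => (i, i) := by
          rintro ⟨i, j⟩ hq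
          simp only [Finset.mem_filter, mul_one] at hq
          have he := (div_eq_one_iff_eq (hne j)).mp hq.2
          refine Finset.mem_image.mpr ⟨i, Finset.mem_univ _, ?_⟩
          fin_cases i <;> fin_cases j <;> simp_all
        have := Finset.card_le_card hle
        have h3 : ((Finset.univ : Finset (Fin 3)).image fun i => (i, i)).card = 3 := by decide
        omega

/-- Eigenvalue ratios of an element of order seven. -/
theorem seven_spec {g : G} (hg : orderOf g = 7) {μ : Fin 3 → ℂ}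
    (hμ : ∀ i, μ i ^ orderOf g = 1) (hdet : μ 0 * μ 1 * μ 2 = 1)
    (hk : ∀ k : ℕ, (χ : G → ℂ) (g ^ k) = ∑ i, μ i ^ k) :
    (χ : G → ℂ) g * conj ((χ : G → ℂ) g) = 2 ∧ (∀ i j, μ i = μ j → i = j) ∧
      ∀ z : ℂ, z ^ 7 = 1 → z ≠ 1 →
        (Finset.univ.filter fun q : Fin 3 × Fin 3 => μ q.1 / μ q.2 * z = 1).card = 1 := by
  obtain ⟨N, hN1, hN6, hf, hsum, hcount⟩ :=
    D.prime_counts (by norm_num) (by norm_num) hg hμ hdet hk
  have hN : N = 1 := by omega
  subst hN
  refine ⟨by rw [hf]; norm_num, fun i j he => ?_, hcount⟩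
  by_contra hne
  have hnz : ∀ i, μ i ≠ 0 := fun i e => by
    have := hμ i
    rw [e, zero_pow (orderOf_pos g).ne'] at this
    exact zero_ne_one this
  have hle : insert (i, j) ((Finset.univ : Finset (Fin 3)).image fun i => (i, i)) ⊆
      Finset.univ.filter fun q : Fin 3 × Fin 3 => μ q.1 / μ q.2 * 1 = 1 := by
    intro q hq
    rcases Finset.mem_insert.mp hq with rfl | hq
    · simp [he, hnz j]
    · obtain ⟨a, -, rfl⟩ := Finset.mem_image.mp hq
      simp [hnz a]
  have h := Finset.card_le_card hle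
  rw [Finset.card_insert_of_notMem (by simp [hne]),
    show ((Finset.univ : Finset (Fin 3)).image fun i => (i, i)).card = 3 by decide] at h
  omega

/-- No element has order forty-nine. -/
theorem no_fortynine (g : G) : orderOf g ≠ 49 := by
  intro hg
  obtain ⟨μ, ν, hμ, -, hμd, -, hij⟩ := exists_joint D.hyp D.deg (Commute.one_right g)
  have hk : ∀ k : ℕ, (χ : G → ℂ) (g ^ k) = ∑ i, μ i ^ k := fun k => by simpa using hij k 0
  have hg7 : orderOf (g ^ 7) = 7 := by
    rw [orderOf_pow' g (by norm_num), hg]; norm_num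
  have hk7 : ∀ k : ℕ, (χ : G → ℂ) ((g ^ 7) ^ k) = ∑ i, (μ i ^ 7) ^ k := fun k => by
    rw [← pow_mul, hk]; simp [pow_mul]
  have hμ7 : ∀ i, (μ i ^ 7) ^ orderOf (g ^ 7) = 1 := fun i => by
    rw [hg7, ← pow_mul, show 7 * 7 = orderOf g by rw [hg]]; exact hμ i
  have hd7 : μ 0 ^ 7 * μ 1 ^ 7 * μ 2 ^ 7 = 1 := by rw [← mul_pow, ← mul_pow, hμd, one_pow]
  obtain ⟨h2, hinj, -⟩ := D.seven_spec hg7 hμ7 hd7 hk7
  have hnz : ∀ i, μ i ≠ 0 := fun i e => by
    have := hμ i
    rw [e, zero_pow (orderOf_pos g).ne'] at this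
    exact zero_ne_one this
  set F : ℕ → ℂ := fun k => ∑ q : Fin 3 × Fin 3, 1 * (μ q.1 / μ q.2) ^ k with hF
  have hFv : ∀ k ∈ Finset.range 49, F k = (χ : G → ℂ) g * conj ((χ : G → ℂ) g) +
      if 7 ∣ k then (if k = 0 then 9 else 2) - (χ : G → ℂ) g * conj ((χ : G → ℂ) g) else 0 := by
    intro k hkr
    simp only [hF, one_mul]
    rw [← D.sq_eq_sum hμ hk k]
    split_ifs with hd h0
    · subst h0
      rw [pow_zero, D.deg, Complex.conj_ofNat]; ring
    · obtain ⟨j, rfl⟩ := hd
      rw [pow_mul, D.sq_pow (g ^ 7), h2]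
      · ring
      · rw [hg7]
        refine ((Nat.Prime.coprime_iff_not_dvd (by norm_num)).mpr ?_).symm
        rw [Finset.mem_range] at hkr
        exact Nat.not_dvd_of_pos_of_lt (by omega) (by omega)
    · rw [D.sq_pow g, add_zero]
      rw [hg, show (49 : ℕ) = 7 ^ 2 by norm_num]
      exact Nat.Coprime.pow_right 2 ((Nat.Prime.coprime_iff_not_dvd (by norm_num)).mpr hd).symm
  have hr : ∀ q : Fin 3 × Fin 3, (μ q.1 / μ q.2) ^ 49 = 1 := fun q => by
    rw [← hg, div_pow, hμ, hμ, div_one]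
  have hω := Complex.isPrimitiveRoot_exp 49 (by norm_num)
  set ω := Complex.exp (2 * Real.pi * Complex.I / (49 : ℕ))
  set f := (χ : G → ℂ) g * conj ((χ : G → ℂ) g) with hf
  set S := (Finset.range 49).filter (fun k => 7 ∣ k) with hS
  have hSimg : S = (Finset.range 7).image (fun j => 7 * j) := by decide +kernel
  have hcoef : ∀ z : ℂ, z ^ 49 = 1 → (49 : ℂ) * ((Finset.univ.filter
      fun q : Fin 3 × Fin 3 => μ q.1 / μ q.2 * z = 1).card : ℂ) =
      f * (if z = 1 then (49 : ℂ) else 0) + 7 + (2 - f) * (if z ^ 7 = 1 then (7 : ℂ) else 0) := by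
    intro z hz
    have h := fourier (fun _ : Fin 3 × Fin 3 => (1 : ℂ)) (fun q => μ q.1 / μ q.2) hr hz
    rw [Finset.sum_const, nsmul_eq_mul, mul_one] at h
    have hsum : ∑ k ∈ Finset.range 49, F k * z ^ k =
        f * (∑ k ∈ Finset.range 49, z ^ k) + 7 + (2 - f) * ∑ j ∈ Finset.range 7, (z ^ 7) ^ j := by
      rw [Finset.sum_congr rfl fun k hk' => by rw [hFv k hk', add_mul], Finset.sum_add_distrib,
        ← Finset.mul_sum, add_assoc]
      congr 1
      rw [Finset.sum_congr rfl fun k _ => ite_mul _ _ _ _]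
      simp only [zero_mul]
      rw [← Finset.sum_filter, ← hS, hSimg, Finset.sum_image (fun a _ b _ e => by
        exact Nat.eq_of_mul_eq_mul_left (by norm_num) e), Finset.mul_sum,
        Finset.sum_range_succ' _ 6, Finset.sum_range_succ' _ 6]
      simp only [Nat.mul_eq_zero, OfNat.ofNat_ne_zero, false_or, Nat.add_eq_zero,
        one_ne_zero, and_false, if_false, if_true, pow_mul, pow_zero, mul_one]
      ring
    have h' : ∑ k ∈ Finset.range 49, F k * z ^ k = (49 : ℂ) * ((Finset.univ.filter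
        fun q : Fin 3 × Fin 3 => μ q.1 / μ q.2 * z = 1).card : ℂ) := by
      simp only [hF]; exact_mod_cast h
    rw [← h', hsum, geom_root hz, geom_root (by rw [← pow_mul]; exact hz)]
    norm_num
  have hω7 : ω ^ 7 ≠ 1 := fun e => by
    have := hω.dvd_of_pow_eq_one 7 e
    norm_num at this
  have h := hcoef ω hω.pow_eq_one
  rw [if_neg (hω.ne_one (by norm_num)), if_neg hω7] at h
  simp only [mul_zero, zero_add, add_zero] at h
  have : (49 * (Finset.univ.filter fun q : Fin 3 × Fin 3 => μ q.1 / μ q.2 * ω = 1).card : ℕ) = 7 := by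
    exact_mod_cast h
  omega

/-- An element commuting with an element of order seven, of order prime to seven, is central. -/
theorem central_of_commute {x y : G} (hx : orderOf x = 7) (hxy : Commute x y)
    (hy : (orderOf y).Coprime 7) : y ∈ Subgroup.center G := by
  obtain ⟨μ, ν, hμ, hν, hμd, hνd, hij⟩ := exists_joint D.hyp D.deg hxy
  have hkx : ∀ k : ℕ, (χ : G → ℂ) (x ^ k) = ∑ i, μ i ^ k := fun k => by simpa using hij k 0
  obtain ⟨-, hinj, hcount⟩ := D.seven_spec hx hμ hμd hkx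
  have hμ7 : ∀ i, μ i ^ 7 = 1 := fun i => hx ▸ hμ i
  have hμ0 : ∀ i, μ i ≠ 0 := fun i e => by
    have := hμ7 i
    rw [e, zero_pow (by norm_num)] at this
    exact zero_ne_one this
  have hν0 : ∀ i, ν i ≠ 0 := fun i e => by
    have := hν i
    rw [e, zero_pow (orderOf_pos y).ne'] at this
    exact zero_ne_one this
  set r : ℂ := (χ : G → ℂ) (x * y) * conj ((χ : G → ℂ) (x * y)) with hrdef
  obtain ⟨rn, hrn⟩ := exists_int_normSq D.hyp D.mem D.nreal (x * y)
  have hord : orderOf (x * y) = 7 * orderOf y := by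
    rw [hxy.orderOf_mul_eq_mul_orderOf_of_coprime (hx ▸ hy.symm), hx]
  set T : ℕ → ℂ := fun i => ∑ q : Fin 3 × Fin 3, ν q.1 / ν q.2 * (μ q.1 / μ q.2) ^ i with hT
  have hTv : ∀ i, T i = (χ : G → ℂ) (x ^ i * y) * conj ((χ : G → ℂ) (x ^ i * y)) := by
    intro i
    have := hij i 1
    simp only [pow_one] at this
    rw [this, map_sum, Finset.sum_mul_sum, hT]
    dsimp only
    rw [Fintype.sum_prod_type]
    refine Finset.sum_congr rfl fun a _ => Finset.sum_congr rfl fun b _ => ?_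
    rw [map_mul, map_pow, conj_root (by norm_num) (hμ7 b), conj_root (orderOf_pos y).ne' (hν b),
      div_pow, inv_pow, div_eq_mul_inv, div_eq_mul_inv]
    ring
  have hTr : ∀ i ∈ Finset.range 7, T i = r + if i = 0 then T 0 - r else 0 := by
    intro i hi
    split_ifs with h0
    · subst h0; ring
    · rw [add_zero, hTv]
      obtain ⟨k, hk1, hk2⟩ := Nat.chineseRemainder hy.symm i 1
      have e : (x * y) ^ k = x ^ i * y := by
        rw [hxy.mul_pow, pow_eq_pow_iff_modEq.mpr (hx.symm ▸ hk1)]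
        congr 1
        exact (pow_eq_pow_iff_modEq.mpr hk2).trans (pow_one y)
      rw [← e, D.sq_pow]
      rw [hord, Nat.coprime_mul_iff_right]
      refine ⟨?_, ?_⟩
      · rw [Nat.Coprime, hk1.gcd_eq]
        exact ((Nat.Prime.coprime_iff_not_dvd (by norm_num)).mpr
          (Nat.not_dvd_of_pos_of_lt (Nat.pos_of_ne_zero h0) (Finset.mem_range.mp hi))).symm
      · rw [Nat.Coprime, hk2.gcd_eq, Nat.gcd_one_left]
  have hcoef : ∀ z : ℂ, z ^ 7 = 1 → r * (if z = 1 then (7 : ℂ) else 0) + (T 0 - r) =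
      7 * ∑ q ∈ Finset.univ.filter (fun q : Fin 3 × Fin 3 => μ q.1 / μ q.2 * z = 1),
        ν q.1 / ν q.2 := by
    intro z hz
    have h := fourier (fun q : Fin 3 × Fin 3 => ν q.1 / ν q.2) (fun q => μ q.1 / μ q.2)
      (n := 7) (fun q => by rw [div_pow, hμ7, hμ7, div_one]) hz
    push_cast at h
    rw [← h, Finset.sum_congr rfl fun i hi => show T i * z ^ i = _ by rw [hTr i hi, add_mul],
      Finset.sum_add_distrib, ← Finset.mul_sum, geom_root hz]
    simp only [ite_mul, zero_mul, Finset.sum_ite_eq', Finset.mem_range]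
    norm_num
  have hdiag : Finset.univ.filter (fun q : Fin 3 × Fin 3 => μ q.1 / μ q.2 * 1 = 1) =
      (Finset.univ : Finset (Fin 3)).image fun i => (i, i) := by
    ext ⟨i, j⟩
    simp only [mul_one, Finset.mem_filter, Finset.mem_univ, true_and, Finset.mem_image,
      Prod.mk.injEq, div_eq_one_iff_eq (hμ0 j)]
    exact ⟨fun e => ⟨i, rfl, hinj i j e⟩, fun ⟨a, ha, hb⟩ => by rw [← ha, ← hb]⟩
  have h1 := hcoef 1 (one_pow 7)
  rw [if_pos rfl, hdiag, Finset.sum_image (fun a _ b _ e => congrArg Prod.fst e)] at h1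
  simp only [div_self (hν0 _), Finset.sum_const, Finset.card_univ, Fintype.card_fin,
    nsmul_eq_mul, mul_one] at h1
  have hoff : ∀ a b : Fin 3, a ≠ b → ν a / ν b = ((3 - rn : ℤ) : ℂ) := by
    intro a b hab
    have hz1 : μ b / μ a ≠ 1 := fun e => hab (hinj a b ((div_eq_one_iff_eq (hμ0 a)).mp e).symm)
    have hz : (μ b / μ a) ^ 7 = 1 := by rw [div_pow, hμ7, hμ7, div_one]
    have h := hcoef _ hz
    have hmem : (a, b) ∈ Finset.univ.filter
        (fun q : Fin 3 × Fin 3 => μ q.1 / μ q.2 * (μ b / μ a) = 1) := by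
      have := hμ0 a
      have := hμ0 b
      simp only [Finset.mem_filter, Finset.mem_univ, true_and]
      field_simp
    obtain ⟨q, hq⟩ := Finset.card_eq_one.mp (hcount _ hz hz1)
    rw [hq, Finset.mem_singleton] at hmem
    rw [if_neg hz1, hq, Finset.sum_singleton, ← hmem] at h
    push_cast
    rw [← hrn]
    linear_combination (-1 / 7 : ℂ) * h + (1 / 7 : ℂ) * h1
  set e : ℂ := ((3 - rn : ℤ) : ℂ) with he
  have he1 : e = 1 := by
    have h01 := hoff 0 1 (by decide)
    have h12 := hoff 1 2 (by decide)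
    have h02 := hoff 0 2 (by decide)
    have : e * e = e := by
      nth_rewrite 3 [← h02]
      nth_rewrite 1 [← h01]
      rw [← h12, div_mul_div_cancel₀ (hν0 1)]
    have hne : e ≠ 0 := by rw [← h01]; exact div_ne_zero (hν0 0) (hν0 1)
    exact mul_left_cancel₀ hne (by rw [this, mul_one])
  have heq : ∀ i, ν i = ν 0 := fun i => by
    by_cases hi : i = 0
    · rw [hi]
    · exact (div_eq_one_iff_eq (hν0 0)).mp ((hoff i 0 hi).trans he1)
  refine mem_center_of_scalar D.deg D.faithful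
    (Complex.norm_eq_one_of_pow_eq_one (hν 0) (orderOf_pos y).ne') ?_
  have := hij 0 1
  simp only [pow_zero, pow_one, one_mul] at this
  rw [this, Fin.sum_univ_three, heq 1, heq 2]
  ring

/-- The centralizer of an element of order seven. -/
theorem centralizer_le {x : G} (hx : orderOf x = 7) :
    Subgroup.centralizer ({x} : Set G) ≤ Subgroup.zpowers x ⊔ Subgroup.center G := by
  intro y hy
  have hxy : Commute x y := Subgroup.mem_centralizer_singleton_iff.mp hy |>.symm
  have hn := (orderOf_pos y).ne'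
  obtain ⟨e, m, hm, hn_eq⟩ := Nat.exists_eq_pow_mul_and_not_dvd hn 7 (by norm_num)
  have hcop : m.Coprime 7 := ((Nat.Prime.coprime_iff_not_dvd (by norm_num)).mpr hm).symm
  have hy7 : orderOf (y ^ m) = 7 ^ e := by
    rw [orderOf_pow_of_dvd (fun h => by simp [h] at hcop) (hn_eq ▸ Dvd.intro_left _ rfl), hn_eq,
      Nat.mul_div_cancel _ (Nat.pos_of_ne_zero fun h => by simp [h] at hcop)]
  have hy' : orderOf (y ^ 7 ^ e) = m := by
    rw [orderOf_pow_of_dvd (by positivity) (hn_eq ▸ Dvd.intro _ rfl), hn_eq,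
      Nat.mul_div_cancel_left _ (by positivity)]
  have hc : y ^ 7 ^ e ∈ Subgroup.center G :=
    D.central_of_commute hx (hxy.pow_right _) (hy'.symm ▸ hcop)
  have he : e ≤ 1 := by
    by_contra hgt
    apply D.no_fortynine ((y ^ m) ^ (7 ^ (e - 2)))
    rw [orderOf_pow_of_dvd (by positivity) (hy7 ▸ Nat.pow_dvd_pow 7 (by omega)), hy7,
      Nat.pow_div (by omega) (by norm_num), show e - (e - 2) = 2 by omega]
  have h7 : (y ^ m) ^ 7 = 1 := orderOf_dvd_iff_pow_eq_one.mp
    (hy7 ▸ (Nat.pow_dvd_pow 7 he).trans (by norm_num))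
  -- the seven-part is a power of `x`
  have hmx : y ^ m ∈ Subgroup.zpowers x := by
    obtain ⟨μ, ν, hμ, hν, hμd, hνd, hij⟩ := exists_joint D.hyp D.deg (hxy.pow_right m)
    have hkx : ∀ k : ℕ, (χ : G → ℂ) (x ^ k) = ∑ i, μ i ^ k := fun k => by simpa using hij k 0
    obtain ⟨-, hinj, -⟩ := D.seven_spec hx hμ hμd hkx
    have hμ7 : ∀ i, μ i ^ 7 = 1 := fun i => hx ▸ hμ i
    have hν7 : ∀ i, ν i ^ 7 = 1 := fun i => by
      obtain ⟨c, hc⟩ := orderOf_dvd_of_pow_eq_one h7
      rw [hc, pow_mul, hν i, one_pow]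
    have hμ0 : ∀ i, μ i ≠ 0 := fun i e => by
      have := hμ7 i
      rw [e, zero_pow (by norm_num)] at this
      exact zero_ne_one this
    have hν0 : ∀ i, ν i ≠ 0 := fun i e => by
      have := hν7 i
      rw [e, zero_pow (by norm_num)] at this
      exact zero_ne_one this
    haveI : Fact (Nat.Prime 7) := ⟨by norm_num⟩
    have hprim : IsPrimitiveRoot (μ 0 / μ 1) 7 :=
      IsPrimitiveRoot.iff_orderOf.mpr (orderOf_eq_prime (by rw [div_pow, hμ7, hμ7, div_one])
        (fun e => absurd (hinj 0 1 ((div_eq_one_iff_eq (hμ0 1)).mp e)) (by decide)))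
    haveI : Fact (Nat.Prime 7) := ⟨by norm_num⟩
    obtain ⟨j, -, hj⟩ := hprim.eq_pow_of_pow_eq_one (ξ := (ν 0 / ν 1)⁻¹)
      (by rw [inv_pow, div_pow, hν7, hν7, div_one, inv_one])
    set w := x ^ j * y ^ m with hw
    by_cases hw1 : w = 1
    · rw [show y ^ m = (x ^ j)⁻¹ from eq_inv_of_mul_eq_one_right hw1]
      exact Subgroup.inv_mem _ (Subgroup.pow_mem _ (Subgroup.mem_zpowers x) j)
    · exfalso
      have hwc : Commute (x ^ j) (y ^ m) := (hxy.pow_right m).pow_left j
      have hw7 : orderOf w = 7 := by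
        haveI : Fact (Nat.Prime 7) := ⟨by norm_num⟩
        refine orderOf_eq_prime ?_ hw1
        rw [hw, hwc.mul_pow, h7, mul_one, ← pow_mul, mul_comm, pow_mul,
          show x ^ 7 = 1 from hx ▸ pow_orderOf_eq_one x, one_pow]
      obtain ⟨-, hinjw, -⟩ := D.seven_spec hw7 (μ := fun i => μ i ^ j * ν i)
        (fun i => by rw [hw7, mul_pow, ← pow_mul, mul_comm j, pow_mul, hμ7, one_pow, hν7, one_mul])
        (show μ 0 ^ j * ν 0 * (μ 1 ^ j * ν 1) * (μ 2 ^ j * ν 2) = 1 by
          calc _ = (μ 0 * μ 1 * μ 2) ^ j * (ν 0 * ν 1 * ν 2) := by ring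
            _ = 1 := by rw [hμd, hνd, one_pow, one_mul])
        (fun k => by
          rw [hw, hwc.mul_pow, ← pow_mul x, hij (j * k) k]
          exact Finset.sum_congr rfl fun i _ => by rw [mul_pow, pow_mul])
      refine absurd (hinjw 0 1 ?_) (by decide)
      show μ 0 ^ j * ν 0 = μ 1 ^ j * ν 1
      rw [div_pow, inv_div] at hj
      field_simp [hμ0 0, hμ0 1, hν0 0, hν0 1, pow_ne_zero] at hj
      linear_combination hj
  obtain ⟨a, b, hab⟩ : ∃ a b : ℤ, a * (m : ℤ) + b * ((7 ^ e : ℕ) : ℤ) = 1 := by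
    have := Int.isCoprime_iff_gcd_eq_one.mpr
      (show Int.gcd (m : ℤ) ((7 ^ e : ℕ) : ℤ) = 1 by
        rw [Int.gcd_natCast_natCast]; exact Nat.Coprime.pow_right e hcop)
    exact this
  rw [show y = (y ^ m) ^ a * (y ^ 7 ^ e) ^ b by
    rw [← zpow_natCast y m, ← zpow_natCast y (7 ^ e), ← zpow_mul, ← zpow_mul, ← zpow_add,
      show (m : ℤ) * a + ((7 ^ e : ℕ) : ℤ) * b = 1 by linarith, zpow_one]]
  exact Subgroup.mul_mem_sup (Subgroup.zpow_mem _ hmx a) (Subgroup.zpow_mem _ hc b)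

/-- The centre is elementary and has order at most three. -/
theorem center_spec : Nat.card (Subgroup.center G) ≤ 3 ∧
    ∀ z ∈ Subgroup.center G, z ^ 3 = 1 := by
  have hkey : ∀ z : Subgroup.center G, ∃ c : ℂ, c ^ 3 = 1 ∧
      (χ : G → ℂ) z = 3 * c ∧ centralHom χ z = c := by
    intro z
    obtain ⟨μ, ν, hμ, -, hμd, -, hij⟩ := exists_joint D.hyp D.deg (Commute.one_right (z : G))
    have hk : ∀ k : ℕ, (χ : G → ℂ) ((z : G) ^ k) = ∑ i, μ i ^ k := fun k => by simpa using hij k 0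
    have hcv : ∀ k : ℕ, (χ : G → ℂ) ((z : G) ^ k) = 3 * centralHom χ z ^ k := fun k => by
      rw [← SubgroupClass.coe_pow, apply_center_eq, D.deg, map_pow, mul_comm]
    set c := centralHom χ z with hc
    have e : ∀ k : ℕ, μ 0 ^ k + μ 1 ^ k + μ 2 ^ k = 3 * c ^ k := fun k => by
      rw [← hcv, hk, Fin.sum_univ_three]
    refine ⟨c, ?_, by have := hcv 1; rwa [pow_one, pow_one] at this, rfl⟩
    have key : 6 * (μ 0 * μ 1 * μ 2) = (μ 0 + μ 1 + μ 2) ^ 3 -
        3 * (μ 0 + μ 1 + μ 2) * (μ 0 ^ 2 + μ 1 ^ 2 + μ 2 ^ 2) +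
          2 * (μ 0 ^ 3 + μ 1 ^ 3 + μ 2 ^ 3) := by ring
    have h1 := e 1
    simp only [pow_one] at h1
    rw [hμd, h1, e 2, e 3] at key
    linear_combination (-1 / 6 : ℂ) * key
  choose c hc3 hcv hch using hkey
  have hinj : Function.Injective c := by
    intro a b hab
    have hq : centralHom χ (a * b⁻¹) = 1 := by
      have h1 : centralHom χ (a * b⁻¹) * centralHom χ b = centralHom χ a := by
        rw [← map_mul, inv_mul_cancel_right]
      rw [hch b, hch a, hab] at h1
      have hne : c b ≠ 0 := fun e => by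
        have := hc3 b
        rw [e] at this
        simp at this
      exact mul_right_cancel₀ hne (by rw [h1, one_mul])
    have := D.faithful _ (show (χ : G → ℂ) ((a * b⁻¹ : Subgroup.center G) : G) = (χ : G → ℂ) 1 by
      rw [apply_center_eq, hq, one_mul])
    rw [Subgroup.coe_mul, Subgroup.coe_inv, mul_inv_eq_one] at this
    exact Subtype.ext this
  refine ⟨?_, fun z hz => ?_⟩
  · let f : Subgroup.center G → (Polynomial.nthRoots 3 (1 : ℂ)).toFinset := fun z =>
      ⟨c z, by simp [Polynomial.mem_nthRoots, hc3 z]⟩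
    refine (Nat.card_le_card_of_injective f fun a b e => hinj (congrArg Subtype.val e)).trans ?_
    rw [Nat.card_eq_fintype_card, Fintype.card_coe]
    exact (Multiset.toFinset_card_le _).trans (Polynomial.card_nthRoots 3 _)
  · have h3 : centralHom χ (⟨z, hz⟩ ^ 3) = 1 := by rw [map_pow, hch, hc3]
    exact D.faithful _ (by
      rw [show z ^ 3 = ((⟨z, hz⟩ ^ 3 : Subgroup.center G) : G) from rfl, apply_center_eq, h3,
        one_mul])

/-- The centralizer of an element of order seven is small. -/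
theorem card_centralizer_le {x : G} (hx : orderOf x = 7) :
    Nat.card (Subgroup.centralizer ({x} : Set G)) ≤ 7 * Nat.card (Subgroup.center G) := by
  refine (Nat.le_of_dvd Nat.card_pos (Subgroup.card_dvd_of_le (D.centralizer_le hx))).trans ?_
  have h : Subgroup.zpowers x ⊔ Subgroup.center G ≤
      (MonoidHom.noncommCoprod (Subgroup.zpowers x).subtype (Subgroup.center G).subtype
        fun a z => show Commute (a : G) (z : G) from
          (Subgroup.mem_center_iff.mp z.2 (a : G))).range := by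
    exact sup_le (fun a ha => ⟨(⟨a, ha⟩, 1), show a * 1 = a from mul_one a⟩)
      (fun z hz => ⟨(1, ⟨z, hz⟩), show 1 * z = z from one_mul z⟩)
  refine (Nat.le_of_dvd Nat.card_pos (Subgroup.card_dvd_of_le h)).trans ?_
  refine (Nat.card_le_card_of_surjective _ (MonoidHom.rangeRestrict_surjective _)).trans ?_
  rw [Nat.card_prod, Nat.card_zpowers, hx]

theorem adjoint_value {x : G} (hx : orderOf x = 7) {φ : Cfsg.IrrCharacter G} (hφ : φ ∈ three u) :
    ‖(φ : G → ℂ) x‖ ^ 2 = 2 := by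
  obtain ⟨μ, ν, hμ, -, hμd, -, hij⟩ := exists_joint D.hyp D.deg (Commute.one_right x)
  have h2 := (D.seven_spec hx hμ hμd fun k => by simpa using hij k 0).1
  rw [← (pair D.hyp D.mem hφ).2.2 D.nreal x, Complex.mul_conj'] at h2
  exact_mod_cast h2

theorem false : False := by
  haveI : Fintype (Subgroup.center G) := Fintype.ofFinite _
  -- an element of order seven
  have h7 : 7 ∣ Fintype.card G := by
    by_contra h7
    have hnd : ∀ p : ℕ, p.Prime → p ∣ Fintype.card G → p = 2 ∨ p = 3 := fun p hp hd => by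
      rcases D.prime_mem hp hd with h | h | h
      · exact Or.inl h
      · exact Or.inr h
      · exact absurd (h ▸ hd) h7
    have hn0 : Fintype.card G ≠ 0 := Fintype.card_ne_zero
    have hcard : Nat.card G = 2 ^ (Fintype.card G).factorization 2 *
        3 ^ (Fintype.card G).factorization 3 := by
      rw [Nat.card_eq_fintype_card]
      refine Nat.eq_of_factorization_eq hn0 (by positivity) fun p => ?_
      rw [Nat.factorization_mul (by positivity) (by positivity), Nat.prime_two.factorization_pow,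
        Nat.prime_three.factorization_pow, Finsupp.add_apply, Finsupp.single_apply,
        Finsupp.single_apply]
      by_cases hp2 : p = 2
      · subst hp2; simp
      by_cases hp3 : p = 3
      · subst hp3; simp
      rw [if_neg (Ne.symm hp2), if_neg (Ne.symm hp3)]
      by_contra hne
      rw [add_zero] at hne
      have hm : p ∈ (Fintype.card G).primeFactors := by
        rw [← Nat.support_factorization]; exact Finsupp.mem_support_iff.mpr hne
      rcases hnd p (Nat.prime_of_mem_primeFactors hm) (Nat.dvd_of_mem_primeFactors hm) with h | h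
      · exact hp2 h
      · exact hp3 h
    haveI := Cfsg.Agent.S0144.result 2 3 _ _ Nat.prime_two Nat.prime_three hcard
    haveI : Nontrivial G := ⟨⟨u, 1, D.hyp.1⟩⟩
    exact (Group.IsSolvable.commutator_lt_top_of_nontrivial G).ne (perfect D.hyp)
  haveI : Fact (Nat.Prime 7) := ⟨by norm_num⟩
  obtain ⟨x, hx⟩ := exists_prime_orderOf_dvd_card 7 h7
  obtain ⟨hc3, hcube⟩ := D.center_spec
  set C := Nat.card (Subgroup.centralizer ({x} : Set G)) with hCdef
  have hC : C ≤ 7 * Nat.card (Subgroup.center G) := D.card_centralizer_le hx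
  -- the symmetric squares
  have hconj : (⟨_, IsIrrCharacter.conj' χ.2⟩ : Cfsg.IrrCharacter G) ∈ three u := by
    rw [mem_three]
    simp [D.deg, (mem_three.mp D.mem).2, Complex.conj_ofNat]
  set χb : Cfsg.IrrCharacter G := ⟨_, IsIrrCharacter.conj' χ.2⟩ with hχb
  have hnr : ∀ φ ∈ three u, ¬ RealValued φ := fun φ hφ hr => D.nreal ((pair D.hyp D.mem hφ).1.mpr hr)
  obtain ⟨Φ, hΦ, hΦd, hΦu⟩ := sym_nonreal D.hyp D.mem D.nreal
  obtain ⟨Φ', hΦ', hΦd', hΦu'⟩ := sym_nonreal D.hyp hconj (hnr _ hconj)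
  have hterm : ∀ Ψ : Cfsg.IrrCharacter G, Cfsg.charDegree (Ψ : G → ℂ) = 6 →
      (Ψ : G → ℂ) u = 2 → (Ψ ∉ three u ∧ Ψ ≠ oneChar G) ∧
        ((Cfsg.charDegree (Ψ : G → ℂ) : ℂ) * (Ψ : G → ℂ) u).re = 12 := by
    intro Ψ hd hu
    refine ⟨⟨fun hm => ?_, fun e => ?_⟩, by rw [hd, hu]; norm_num⟩
    · rw [(mem_three.mp hm).2] at hu; norm_num at hu
    · rw [e, deg_oneChar] at hd; norm_num at hd
  have hP : ∀ P : Finset (Cfsg.IrrCharacter G), (∀ Ψ ∈ P, Cfsg.charDegree (Ψ : G → ℂ) = 6 ∧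
      (Ψ : G → ℂ) u = 2) → 12 * P.card + 1 ≤ 3 * (three u).card := by
    intro P hP
    have h := sum_le D.hyp P fun Ψ hΨ => (hterm Ψ (hP Ψ hΨ).1 (hP Ψ hΨ).2).1
    rw [Finset.sum_congr rfl fun Ψ hΨ => (hterm Ψ (hP Ψ hΨ).1 (hP Ψ hΨ).2).2, Finset.sum_const,
      nsmul_eq_mul] at h
    have : ((12 * P.card + 1 : ℕ) : ℝ) ≤ ((3 * (three u).card : ℕ) : ℝ) := by push_cast; linarith
    exact_mod_cast this
  have hone : oneChar G ∉ three u := fun hm => ne_one_of_mem hm rfl
  have hsq1 : ‖(oneChar G : G → ℂ) x‖ ^ 2 = 1 := by simp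
  -- trivial centre
  by_cases hz : Subgroup.center G = ⊥
  · rw [hz, Subgroup.card_bot, mul_one] at hC
    have hle : ∑ φ ∈ insert (oneChar G) (three u), ‖(φ : G → ℂ) x‖ ^ 2 ≤ (C : ℝ) := by
      rw [hCdef, ← sum_norm_sq_col x]
      exact Finset.sum_le_sum_of_subset_of_nonneg (Finset.subset_univ _) fun _ _ _ => sq_nonneg _
    rw [Finset.sum_insert hone, hsq1, Finset.sum_congr rfl fun φ hφ => D.adjoint_value hx hφ,
      Finset.sum_const, nsmul_eq_mul] at hle
    have : ((1 + (three u).card * 2 : ℕ) : ℝ) ≤ ((7 : ℕ) : ℝ) := by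
      push_cast
      exact hle.trans (by exact_mod_cast hC)
    have hb : 1 + (three u).card * 2 ≤ 7 := by exact_mod_cast this
    have h := hP {Φ} (by simp [hΦd, hΦu])
    simp at h
    omega
  -- centre of order three
  haveI := (Subgroup.nontrivial_iff_ne_bot (Subgroup.center G)).mpr hz
  obtain ⟨⟨z, hzc⟩, hzne⟩ := exists_ne (1 : Subgroup.center G)
  have hz1 : z ≠ 1 := fun e => hzne (Subtype.ext e)
  let ω : Cfsg.IrrCharacter G → ℂ := fun φ => centralHom φ ⟨z, hzc⟩
  have hω3 : ∀ φ, ω φ ^ 3 = 1 := fun φ => by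
    show centralHom φ ⟨z, hzc⟩ ^ 3 = 1
    rw [← map_pow, show (⟨z, hzc⟩ : Subgroup.center G) ^ 3 = 1 from Subtype.ext (hcube z hzc),
      map_one]
  have hnconj : ∀ j : ℕ, ¬ 3 ∣ j → ¬ IsConj (x * z ^ j) x := by
    intro j hj hcj
    obtain ⟨g, hg⟩ := isConj_iff.mp hcj
    have h7x : (x * z ^ j) ^ 7 = 1 := by
      have : (g * (x * z ^ j) * g⁻¹) ^ 7 = 1 := by rw [hg]; exact hx ▸ pow_orderOf_eq_one x
      rwa [conj_pow, mul_inv_eq_one, mul_eq_left] at this
    have hcz : Commute x (z ^ j) :=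
      ((Subgroup.mem_center_iff.mp (Subgroup.pow_mem _ hzc j)) x : _)
    rw [hcz.mul_pow, show x ^ 7 = 1 from hx ▸ pow_orderOf_eq_one x, one_mul, ← pow_mul] at h7x
    have ho : orderOf z = 3 := by
      haveI : Fact (Nat.Prime 3) := ⟨Nat.prime_three⟩
      exact orderOf_eq_prime (hcube z hzc) hz1
    have := orderOf_dvd_of_pow_eq_one h7x
    rw [ho] at this
    rcases Nat.prime_three.dvd_mul.mp this with h | h
    · exact hj h
    · norm_num at h
  have hcol : ∀ j : ℕ, ¬ 3 ∣ j →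
      ∑ φ : Cfsg.IrrCharacter G, ω φ ^ j * ((‖(φ : G → ℂ) x‖ ^ 2 : ℝ) : ℂ) = 0 := by
    intro j hj
    have h := sum_irr_mul_conj (x * z ^ j) x
    rw [if_neg (hnconj j hj)] at h
    rw [← h]
    refine Finset.sum_congr rfl fun φ _ => ?_
    rw [apply_mul_center φ (Subgroup.pow_mem _ hzc j)]
    show centralHom φ ⟨z, hzc⟩ ^ j * _ = _
    rw [← map_pow, Complex.ofReal_pow, ← Complex.mul_conj', mul_assoc]
    rfl
  have hclass : ∀ e : ℂ, e ^ 3 = 1 →
      3 * ∑ φ ∈ Finset.univ.filter (fun φ : Cfsg.IrrCharacter G => ω φ = e),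
        ‖(φ : G → ℂ) x‖ ^ 2 = (C : ℝ) := by
    intro e he
    have he0 : e ≠ 0 := fun h => by simp [h] at he
    have hind : ∀ φ : Cfsg.IrrCharacter G,
        ∑ j ∈ Finset.range 3, (ω φ / e) ^ j = if ω φ = e then (3 : ℂ) else 0 := fun φ => by
      rw [geom_root (by rw [div_pow, hω3, he, div_one])]
      simp [div_eq_one_iff_eq he0]
    have hC' : ∑ φ : Cfsg.IrrCharacter G, ((‖(φ : G → ℂ) x‖ ^ 2 : ℝ) : ℂ) = (C : ℂ) := by
      rw [← Complex.ofReal_sum, sum_norm_sq_col, Complex.ofReal_natCast]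
    have h : ∑ φ : Cfsg.IrrCharacter G,
        (if ω φ = e then (3 : ℂ) else 0) * ((‖(φ : G → ℂ) x‖ ^ 2 : ℝ) : ℂ) = (C : ℂ) := by
      simp only [← hind, Finset.sum_range_succ, Finset.sum_range_zero, zero_add, pow_zero, add_mul,
        one_mul, Finset.sum_add_distrib, hC']
      have h1 := hcol 1 (by norm_num)
      have h2 := hcol 2 (by norm_num)
      simp only [div_pow, div_mul_eq_mul_div, ← Finset.sum_div, h1, h2, zero_div, add_zero]
    simp only [ite_mul, zero_mul] at h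
    rw [← Finset.sum_filter, ← Finset.mul_sum, ← Complex.ofReal_sum] at h
    exact_mod_cast h
  let B : ℂ → Finset (Cfsg.IrrCharacter G) := fun e => (three u).filter fun φ => ω φ = e
  have hC21 : (C : ℝ) ≤ 21 := by
    exact_mod_cast hC.trans (Nat.mul_le_mul_left 7 hc3)
  have hB : ∀ e : ℂ, e ^ 3 = 1 → (B e).card ≤ 3 := by
    intro e he
    have hle : ∑ φ ∈ B e, ‖(φ : G → ℂ) x‖ ^ 2 ≤ ∑ φ ∈ Finset.univ.filter
        (fun φ : Cfsg.IrrCharacter G => ω φ = e), ‖(φ : G → ℂ) x‖ ^ 2 :=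
      Finset.sum_le_sum_of_subset_of_nonneg (fun φ hφ => by
        simp only [B, Finset.mem_filter] at hφ
        simp [hφ.2]) fun _ _ _ => sq_nonneg _
    rw [Finset.sum_congr rfl fun φ hφ => D.adjoint_value hx (Finset.mem_filter.mp hφ).1,
      Finset.sum_const, nsmul_eq_mul] at hle
    have := hclass e he
    have h' : ((B e).card : ℝ) < 4 := by linarith
    exact Nat.lt_succ_iff.mp (by exact_mod_cast h')
  set w := ω χ with hw
  have hw1 : w ≠ 1 := fun e => hz1 (D.faithful z (by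
    show (χ : G → ℂ) ((⟨z, hzc⟩ : Subgroup.center G) : G) = _
    rw [apply_center_eq]
    show ω χ * _ = _
    rw [← hw, e, one_mul]))
  have hwc : conj w = w ^ 2 := by
    rw [conj_root (n := 3) (by norm_num) (hω3 χ)]
    exact inv_eq_of_mul_eq_one_right (by rw [← pow_succ']; exact hω3 χ)
  have hw2 : w ^ 2 ≠ 1 := fun e => hw1 (by
    have := hω3 χ
    rw [← hw, pow_succ, e, one_mul] at this
    exact this)
  have hroots : ∀ φ, ω φ = 1 ∨ ω φ = w ∨ ω φ = w ^ 2 := fun φ => by
    have h3 := hω3 φ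
    have hw3 : w ^ 3 = 1 := hω3 χ
    have hq : w ^ 2 + w + 1 = 0 := by
      have : (w - 1) * (w ^ 2 + w + 1) = 0 := by linear_combination hw3
      exact (mul_eq_zero.mp this).resolve_left (sub_ne_zero.mpr hw1)
    have : (ω φ - 1) * ((ω φ - w) * (ω φ - w ^ 2)) = 0 := by
      linear_combination h3 + (ω φ - ω φ ^ 2) * hq + (ω φ - 1) * hw3
    rcases mul_eq_zero.mp this with h | h
    · exact Or.inl (sub_eq_zero.mp h)
    rcases mul_eq_zero.mp h with h | h
    · exact Or.inr (Or.inl (sub_eq_zero.mp h))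
    · exact Or.inr (Or.inr (sub_eq_zero.mp h))
  have htot : (three u).card ≤ (B 1).card + (B w).card + (B (w ^ 2)).card := by
    calc (three u).card ≤ (B 1 ∪ B w ∪ B (w ^ 2)).card := Finset.card_le_card fun φ hφ => by
          rcases hroots φ with h | h | h <;> simp [B, hφ, h]
      _ ≤ (B 1 ∪ B w).card + (B (w ^ 2)).card := Finset.card_union_le _ _
      _ ≤ _ := Nat.add_le_add_right (Finset.card_union_le _ _) _
  have hb1 := hB 1 (one_pow 3)
  have hb2 := hB w (hω3 χ)
  have hb3 := hB (w ^ 2) (by rw [← pow_mul, mul_comm, pow_mul, hω3 χ, one_pow])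
  have hω_sym : ∀ (φ Ψ : Cfsg.IrrCharacter G), (φ : G → ℂ) 1 = 3 →
      Cfsg.charDegree (Ψ : G → ℂ) = 6 →
      (∀ g, (Ψ : G → ℂ) g = (φ : G → ℂ) g ^ 2 - conj ((φ : G → ℂ) g)) →
      6 * ω Ψ = 9 * ω φ ^ 2 - 3 * conj (ω φ) := by
    intro φ Ψ h3 hd hv
    have h := hv z
    have e1 := apply_center_eq Ψ ⟨z, hzc⟩
    have e2 := apply_center_eq φ ⟨z, hzc⟩
    rw [← deg_cast, hd] at e1
    rw [h3] at e2
    simp only at e1 e2
    rw [e1, e2, map_mul, Complex.conj_ofNat] at h
    push_cast at h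
    show 6 * centralHom Ψ ⟨z, hzc⟩ = 9 * centralHom φ ⟨z, hzc⟩ ^ 2 -
      3 * conj (centralHom φ ⟨z, hzc⟩)
    linear_combination h
  have hΦw : ω Φ = w ^ 2 := by
    have := hω_sym χ Φ D.deg hΦd hΦ
    rw [← hw, hwc] at this
    linear_combination (1 / 6 : ℂ) * this
  have hωb : ω χb = w ^ 2 := by
    show centralHom χb ⟨z, hzc⟩ = _
    rw [← hwc]
    show conj ((χ : G → ℂ) z) / conj ((χ : G → ℂ) 1) = conj ((χ : G → ℂ) z / (χ : G → ℂ) 1)
    rw [map_div₀]
  have hΦw' : ω Φ' = w := by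
    have := hω_sym χb Φ' (mem_three.mp hconj).1 hΦd' hΦ'
    rw [hωb, map_pow, hwc] at this
    have hw4 : w ^ 4 = w := by rw [pow_succ, hω3 χ, one_mul]
    linear_combination (1 / 6 : ℂ) * this + hw4
  have hne : Φ ≠ Φ' := fun e => hw1 (by
    have h : w ^ 2 = w := by rw [← hΦw, ← hΦw', e]
    have h0 : w ≠ 0 := fun h0 => by have := hω3 χ; rw [← hw, h0] at this; simp at this
    rw [sq] at h
    exact mul_left_cancel₀ h0 (by rw [h, mul_one]))
  have h24 := hP {Φ, Φ'} (by simp [hΦd, hΦu, hΦd', hΦu'])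
  rw [Finset.card_pair hne] at h24
  have hb0 : (B 1).Nonempty := Finset.card_pos.mp (by omega)
  obtain ⟨φ₀, hφ₀⟩ := hb0
  obtain ⟨hφm, hφ1⟩ := Finset.mem_filter.mp hφ₀
  obtain ⟨Φ₀, hΦ₀, hΦd₀, hΦu₀⟩ := sym_nonreal D.hyp hφm (hnr _ hφm)
  have hΦ1 : ω Φ₀ = 1 := by
    have := hω_sym φ₀ Φ₀ (mem_three.mp hφm).1 hΦd₀ hΦ₀
    rw [hφ1, map_one] at this
    linear_combination (1 / 6 : ℂ) * this
  have hn1 : Φ₀ ≠ Φ := fun e => hw2 (by rw [← hΦw, ← e, hΦ1])
  have hn2 : Φ₀ ≠ Φ' := fun e => hw1 (by rw [← hΦw', ← e, hΦ1])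
  have h36 := hP {Φ₀, Φ, Φ'} (by simp [hΦd, hΦu, hΦd', hΦu', hΦd₀, hΦu₀])
  rw [Finset.card_insert_of_notMem (by simp [hn1, hn2]), Finset.card_pair hne] at h36
  omega

end NR

/-- A faithful member is real. -/
theorem real_of_faithful {u : G} (h : Hyp u) {χ : Cfsg.IrrCharacter G} (hχ : χ ∈ three u)
    (hf : ∀ g : G, (χ : G → ℂ) g = (χ : G → ℂ) 1 → g = 1) : RealValued χ :=
  by_contra fun hr => NR.false ⟨h, hχ, hr, hf⟩

end CfsgLib.DegreeTools.FeitFour
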